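import Mathlib

/-!
# The arithmetic of three integer columns with Cartan matrix `2 I + 2 J`

Three integer columns `d₀, d₁, d₂` on a finite set with `d_i · d_j = 2 + 2 δ_ij`, orthogonal to a
positive degree vector in which `1` occurs only at a marked point, satisfying the congruence and
positivity of restrictions to an elementary abelian group of order 8, cannot satisfy the weighted
equation `∑ (d₀ - d₁) a² / deg = 0`, `a = d₀ + d₁ + d₂`.
-/

set_option autoImplicit false

namespace Cfsg.Agent.Lib.EightInvolution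

open Finset

variable {ι : Type*} [Fintype ι] [DecidableEq ι]

theorem sq_le_one_of_sum_sq_four {deg v : ι → ℤ} (hpos : ∀ i, 0 < deg i)
    (h4 : ∑ i, v i * v i = 4) (h0 : ∑ i, deg i * v i = 0) (i : ι) :
    v i = -1 ∨ v i = 0 ∨ v i = 1 := by
  by_contra hne
  push Not at hne
  have hi : 4 ≤ v i * v i := by
    rcases lt_or_gt_of_ne hne.2.1 with h | h
    · have : v i ≤ -2 := by have := hne.1; omega
      nlinarith
    · have : 2 ≤ v i := by have := hne.2.2; omega
      nlinarith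
  have hrest : ∀ j ∈ (univ : Finset ι).erase i, v j = 0 := by
    intro j hj
    have h1 : v j * v j ≤ ∑ k ∈ (univ : Finset ι).erase i, v k * v k :=
      single_le_sum (f := fun k => v k * v k) (fun k _ => mul_self_nonneg (v k)) hj
    have h2 := add_sum_erase univ (fun k => v k * v k) (mem_univ i)
    have h3 : v j * v j ≤ 0 := by linarith
    exact mul_self_eq_zero.1 (le_antisymm h3 (mul_self_nonneg _))
  have h2 := add_sum_erase univ (fun k => deg k * v k) (mem_univ i)
  rw [sum_eq_zero (fun k hk => by rw [hrest k hk, mul_zero]), add_zero, h0] at h2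
  exact hne.2.1 ((mul_eq_zero.1 h2).resolve_left (hpos i).ne')

/-- On the three remaining constituents of the first column exactly one is missing from another
column, and the other two have the same sign. -/
theorem unique_zero {A : Finset ι} {u v : ι → ℤ} (hA : A.card = 3)
    (hu : ∀ i ∈ A, u i = -1 ∨ u i = 1) (hv : ∀ i ∈ A, v i = -1 ∨ v i = 0 ∨ v i = 1)
    (h : ∑ i ∈ A, u i * v i = 2) :
    ∃ z ∈ A, v z = 0 ∧ ∀ i ∈ A, i ≠ z → v i = u i := by
  obtain ⟨x, y, z, hxy, hxz, hyz, rfl⟩ := card_eq_three.1 hA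
  rw [sum_insert (by simp [hxy, hxz]), sum_insert (by simp [hyz]), sum_singleton] at h
  have h1 := hu x (by simp)
  have h2 := hu y (by simp)
  have h3 := hu z (by simp)
  have k1 := hv x (by simp)
  have k2 := hv y (by simp)
  have k3 := hv z (by simp)
  rcases k1 with k1 | k1 | k1
  rotate_left
  · refine ⟨x, by simp, k1, ?_⟩
    rcases h2 with h2 | h2 <;> rcases h3 with h3 | h3 <;> rcases k2 with k2 | k2 | k2 <;>
      rcases k3 with k3 | k3 | k3 <;> simp_all
  all_goals
    rcases k2 with k2 | k2 | k2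
    rotate_left
    · refine ⟨y, by simp, k2, ?_⟩
      rcases h1 with h1 | h1 <;> rcases h3 with h3 | h3 <;> rcases k3 with k3 | k3 | k3 <;>
        simp_all
    all_goals
      rcases k3 with k3 | k3 | k3
      rotate_left
      · refine ⟨z, by simp, k3, ?_⟩
        rcases h1 with h1 | h1 <;> rcases h2 with h2 | h2 <;> simp_all
      all_goals rcases h1 with h1 | h1 <;> rcases h2 with h2 | h2 <;>
        rcases h3 with h3 | h3 <;> simp_all

/-- The first case: `1 + Z = P + Q` and `1 + 1/Z = 1/P + 1/Q` force a unit. -/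
theorem caseA_arith {Z P Q : ℤ} (hZ : Z ≠ 0) (hP : P ≠ 0) (hQ : Q ≠ 0) (h1 : 1 + Z = P + Q)
    (h2 : (1 : ℚ) + 1 / Z - 1 / P - 1 / Q = 0) : Z = -1 ∨ P = 1 ∨ Q = 1 := by
  have hZ' : (Z : ℚ) ≠ 0 := Int.cast_ne_zero.2 hZ
  have hP' : (P : ℚ) ≠ 0 := Int.cast_ne_zero.2 hP
  have hQ' : (Q : ℚ) ≠ 0 := Int.cast_ne_zero.2 hQ
  field_simp at h2
  have h3 : Z * P * Q + P * Q - Z * Q - Z * P = 0 := by
    have h4 : ((Z * P * Q + P * Q - Z * Q - Z * P : ℤ) : ℚ) = 0 := by
      push_cast
      linarith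
    exact_mod_cast h4
  have h5 : (Z + 1) * (P * Q - Z) = 0 := by
    have : Q = 1 + Z - P := by linarith
    subst this
    linear_combination h3
  rcases mul_eq_zero.1 h5 with h | h
  · exact Or.inl (by linarith)
  · have h6 : (P - 1) * (Q - 1) = 0 := by linear_combination h + h1
    rcases mul_eq_zero.1 h6 with h' | h'
    · exact Or.inr (Or.inl (by linarith))
    · exact Or.inr (Or.inr (by linarith))

/-- The second case has no solution in the given congruence class. -/
theorem caseB_arith {Y P Q : ℤ} (hP : P ≠ 0) (hQ : Q ≠ 0) (hQ1 : Q ≠ 1) (h1 : P = 1 + Y - Q)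
    (h2 : (1 : ℚ) + 4 / Y - 4 / P - 1 / Q = 0) (h8 : Y % 8 = 2)
    (hneg : Y < 0 → Y ≤ -14) : False := by
  have hY : Y ≠ 0 := by intro h; rw [h] at h8; norm_num at h8
  have hY' : (Y : ℚ) ≠ 0 := Int.cast_ne_zero.2 hY
  have hP' : (P : ℚ) ≠ 0 := Int.cast_ne_zero.2 hP
  have hQ' : (Q : ℚ) ≠ 0 := Int.cast_ne_zero.2 hQ
  field_simp at h2
  have h3 : Y * P * Q + 4 * P * Q - 4 * Y * Q - Y * P = 0 := by
    have h4 : ((Y * P * Q + 4 * P * Q - 4 * Y * Q - Y * P : ℤ) : ℚ) = 0 := by
      push_cast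
      linarith
    exact_mod_cast h4
  have h5 : (Q - 1) * (Y * (Y + 1) - (Y + 4) * Q) = 0 := by
    subst h1
    linear_combination h3
  have h6 := (mul_eq_zero.1 h5).resolve_left (sub_ne_zero.2 hQ1)
  have h7 : (Y + 4) ∣ 12 := ⟨Q - (Y - 3), by linear_combination h6⟩
  have hle : Y + 4 ≤ 12 := Int.le_of_dvd (by norm_num) h7
  have hge : -12 ≤ Y + 4 := by
    have := Int.le_of_dvd (show (0 : ℤ) < 12 by norm_num) (neg_dvd.2 h7)
    linarith
  rcases lt_or_ge Y 0 with hlt | hge0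
  · have := hneg hlt
    have h14 : Y = -14 := by omega
    subst h14
    norm_num at h7
  · have h2' : Y = 2 := by omega
    subst h2'
    exact hQ1 (by linarith)

/-- The frame theorem. -/
theorem frame_false (deg : ι → ℤ) (e : ι) (d0 d1 d2 : ι → ℤ) (bar : ι → ι)
    (hpos : ∀ i, 0 < deg i) (hone : ∀ i, deg i = 1 → i = e) (he : deg e = 1)
    (e0 : d0 e = 1) (e1 : d1 e = 0) (e2 : d2 e = 0)
    (g00 : ∑ i, d0 i * d0 i = 4) (g11 : ∑ i, d1 i * d1 i = 4) (g22 : ∑ i, d2 i * d2 i = 4)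
    (g01 : ∑ i, d0 i * d1 i = 2) (g02 : ∑ i, d0 i * d2 i = 2) (g12 : ∑ i, d1 i * d2 i = 2)
    (o0 : ∑ i, deg i * d0 i = 0) (o1 : ∑ i, deg i * d1 i = 0) (o2 : ∑ i, deg i * d2 i = 0)
    (bdeg : ∀ i, deg (bar i) = deg i) (b0 : ∀ i, d0 (bar i) = d0 i)
    (b1 : ∀ i, d2 (bar i) = d1 i)
    (h8 : ∀ i, 8 ∣ deg i + 7 * (d0 i + d1 i + d2 i))
    (hnn : ∀ i, 0 ≤ deg i + 7 * (d0 i + d1 i + d2 i))
    (hT : ∑ i, ((d0 i : ℚ) - d1 i) * ((d0 i : ℚ) + d1 i + d2 i) ^ 2 / deg i = 0) : False := by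
  have s0 := sq_le_one_of_sum_sq_four hpos g00 o0
  have s1 := sq_le_one_of_sum_sq_four hpos g11 o1
  have s2 := sq_le_one_of_sum_sq_four hpos g22 o2
  set A := ((univ : Finset ι).filter fun i => d0 i ≠ 0).erase e with hAdef
  have hmemA : ∀ i, i ∈ A ↔ i ≠ e ∧ d0 i ≠ 0 := fun i => by simp [hAdef]
  have hu : ∀ i ∈ A, d0 i = -1 ∨ d0 i = 1 := fun i hi => by
    rcases s0 i with h | h | h
    · exact Or.inl h
    · exact absurd h ((hmemA i).1 hi).2
    · exact Or.inr h
  -- splitting a sum along `e`, `A` and the rest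
  set R := (univ : Finset ι) \ insert e A with hRdef
  have heA : e ∉ A := fun h => ((hmemA e).1 h).1 rfl
  have hR0 : ∀ i ∈ R, d0 i = 0 := fun i hi => by
    simp only [hRdef, mem_sdiff, mem_insert, not_or] at hi
    by_contra h
    exact hi.2.2 ((hmemA i).2 ⟨hi.2.1, h⟩)
  have hsplit : ∀ f : ι → ℤ, ∑ i, f i = f e + ∑ i ∈ A, f i + ∑ i ∈ R, f i := fun f => by
    rw [← sum_sdiff (subset_univ (insert e A)), sum_insert heA, hRdef]
    ring
  have hA3 : A.card = 3 := by
    have h := hsplit fun i => d0 i * d0 i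
    rw [g00, sum_eq_zero (s := R) (fun i hi => by rw [hR0 i hi, mul_zero]), e0,
      sum_congr rfl (fun i hi => show d0 i * d0 i = 1 by
        rcases hu i hi with h' | h' <;> simp [h'])] at h
    simp at h
    omega
  have hA1 : ∑ i ∈ A, d0 i * d1 i = 2 := by
    have h := hsplit fun i => d0 i * d1 i
    rw [g01, sum_eq_zero (s := R) (fun i hi => by rw [hR0 i hi, zero_mul]), e1] at h
    simpa using h.symm
  have hA2 : ∑ i ∈ A, d0 i * d2 i = 2 := by
    have h := hsplit fun i => d0 i * d2 i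
    rw [g02, sum_eq_zero (s := R) (fun i hi => by rw [hR0 i hi, zero_mul]), e2] at h
    simpa using h.symm
  obtain ⟨z1, hz1A, hz1, hr1⟩ := unique_zero hA3 hu (fun i _ => s1 i) hA1
  obtain ⟨z2, hz2A, hz2, hr2⟩ := unique_zero hA3 hu (fun i _ => s2 i) hA2
  have hbz : bar z1 = z2 := by
    have hb : bar z1 ∈ A := (hmemA _).2 ⟨fun h => ((hmemA z1).1 hz1A).1
      (hone _ (by rw [← bdeg, h, he])), by rw [b0]; exact ((hmemA z1).1 hz1A).2⟩
    by_contra hne
    have h := hr2 _ hb hne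
    rw [b1, hz1, b0] at h
    exact ((hmemA z1).1 hz1A).2 h.symm
  -- signed degrees
  have hsgn : ∀ {i : ι} {c : ℤ}, (c = -1 ∨ c = 1) → c * deg i = 1 → i = e := by
    intro i c hc h
    rcases hc with rfl | rfl
    · have := hpos i; omega
    · exact hone i (by simpa using h)
  have hsgnneg : ∀ {i : ι} {c : ℤ}, (c = -1 ∨ c = 1) → c * deg i = -1 → i = e := by
    intro i c hc h
    rcases hc with rfl | rfl
    · exact hone i (by linarith)
    · have := hpos i; omega
  have hfrac : ∀ {i : ι} {c : ℤ}, (c = -1 ∨ c = 1) →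
      (c : ℚ) / deg i = 1 / ((c * deg i : ℤ) : ℚ) := by
    intro i c hc
    rcases hc with rfl | rfl <;> push_cast <;> ring
  -- the second column outside `insert e A`
  set P1 := R.filter fun i => d1 i ≠ 0 with hP1def
  have hP1R : ∀ i ∈ P1, i ∈ R := fun i hi => (mem_filter.1 hi).1
  have hP1v : ∀ i ∈ P1, d1 i = -1 ∨ d1 i = 1 := fun i hi => by
    rcases s1 i with h | h | h
    · exact Or.inl h
    · exact absurd h (mem_filter.1 hi).2
    · exact Or.inr h
  have hP1off : ∀ i ∈ R, i ∉ P1 → d1 i = 0 := fun i hi hn => by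
    by_contra h
    exact hn (mem_filter.2 ⟨hi, h⟩)
  obtain ⟨y, hyA, hy1⟩ : ∃ y ∈ A, y ≠ z1 := exists_mem_ne (by omega) z1
  have hcard : ∀ z ∈ A, (A.erase z).card = 2 := fun z hz => by rw [card_erase_of_mem hz]; omega
  have hP12 : P1.card = 2 := by
    have h := hsplit fun i => d1 i * d1 i
    rw [g11, e1, ← add_sum_erase A _ hz1A, hz1,
      sum_congr rfl (fun i hi => show d1 i * d1 i = 1 by
        rw [hr1 i (mem_of_mem_erase hi) (ne_of_mem_erase hi)]
        rcases hu i (mem_of_mem_erase hi) with h' | h' <;> simp [h']),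
      ← sum_subset (s₁ := P1) (s₂ := R) hP1R (fun i hi hn => by rw [hP1off i hi hn, mul_zero]),
      sum_congr rfl (fun i hi => show d1 i * d1 i = 1 by
        rcases hP1v i hi with h' | h' <;> simp [h'])] at h
    simp [hcard z1 hz1A] at h
    omega
  obtain ⟨p, q, hpq, hP1⟩ := card_eq_two.1 hP12
  have hpP : p ∈ P1 := by rw [hP1]; simp
  have hqP : q ∈ P1 := by rw [hP1]; simp
  have hpe : p ≠ e := fun h => by
    have := hP1R p hpP; rw [h] at this; simp [hRdef] at this
  have hqe : q ≠ e := fun h => by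
    have := hP1R q hqP; rw [h] at this; simp [hRdef] at this
  have hR2 : ∑ i ∈ R, d1 i * d2 i = d1 p * d2 p + d1 q * d2 q := by
    rw [← sum_subset (s₁ := P1) (s₂ := R) hP1R (fun i hi hn => by rw [hP1off i hi hn, zero_mul]),
      hP1, sum_pair hpq]
  have hR1 : ∑ i ∈ R, deg i * d1 i = d1 p * deg p + d1 q * deg q := by
    rw [← sum_subset (s₁ := P1) (s₂ := R) hP1R (fun i hi hn => by rw [hP1off i hi hn, mul_zero]),
      hP1, sum_pair hpq]
    ring
  have hTR : ∑ i ∈ R, ((d0 i : ℚ) - d1 i) * ((d0 i : ℚ) + d1 i + d2 i) ^ 2 / deg i =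
      -(d1 p : ℚ) * ((d1 p : ℚ) + d2 p) ^ 2 / deg p +
        -(d1 q : ℚ) * ((d1 q : ℚ) + d2 q) ^ 2 / deg q := by
    rw [← sum_subset (s₁ := P1) (s₂ := R) hP1R (fun i hi hn => by
      rw [hP1off i hi hn, hR0 i hi]; simp), hP1, sum_pair hpq, hR0 p (hP1R p hpP),
      hR0 q (hP1R q hqP)]
    simp
  have hTA : ∑ i ∈ A, ((d0 i : ℚ) - d1 i) * ((d0 i : ℚ) + d1 i + d2 i) ^ 2 / deg i =
      (d0 z1 : ℚ) * ((d0 z1 : ℚ) + d2 z1) ^ 2 / deg z1 := by
    rw [← add_sum_erase A _ hz1A, sum_eq_zero (fun i hi => by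
      rw [hr1 i (mem_of_mem_erase hi) (ne_of_mem_erase hi)]; simp), add_zero, hz1]
    simp
  have hT' : (1 : ℚ) + (d0 z1 : ℚ) * ((d0 z1 : ℚ) + d2 z1) ^ 2 / deg z1 +
      (-(d1 p : ℚ) * ((d1 p : ℚ) + d2 p) ^ 2 / deg p +
        -(d1 q : ℚ) * ((d1 q : ℚ) + d2 q) ^ 2 / deg q) = 0 := by
    rw [← hT, ← sum_sdiff (subset_univ (insert e A)), sum_insert heA, ← hRdef, hTR, hTA, e0, e1,
      e2, he]
    simp
    ring
  have ho0 : 1 + ∑ i ∈ A, deg i * d0 i = 0 := by
    have h := hsplit fun i => deg i * d0 i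
    rw [o0, e0, he, sum_eq_zero (s := R) (fun i hi => by rw [hR0 i hi, mul_zero])] at h
    linarith
  have ho1 : (∑ i ∈ A, deg i * d0 i) - deg z1 * d0 z1 + d1 p * deg p + d1 q * deg q = 0 := by
    have h := hsplit fun i => deg i * d1 i
    rw [o1, e1, hR1, ← add_sum_erase A _ hz1A, hz1, sum_congr rfl (fun i hi => by
      rw [hr1 i (mem_of_mem_erase hi) (ne_of_mem_erase hi)])] at h
    rw [← add_sum_erase A _ hz1A]
    linarith
  have hd12 : ∀ i ∈ A, i ≠ z1 → i ≠ z2 → d1 i * d2 i = 1 := fun i hi h1 h2 => by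
    rw [hr1 i hi h1, hr2 i hi h2]
    rcases hu i hi with h' | h' <;> simp [h']
  have hg12 := hsplit fun i => d1 i * d2 i
  rw [g12, hR2, e1] at hg12
  have hzero : ∀ {i : ι}, (d1 i = -1 ∨ d1 i = 1) → d1 i * d2 i = 0 → d2 i = 0 := fun hv h =>
    (mul_eq_zero.1 h).resolve_left (by rcases hv with h' | h' <;> omega)
  by_cases hzz : z1 = z2
  · -- first case
    subst hzz
    rw [← add_sum_erase A _ hz1A, hz1, sum_congr rfl (fun i hi =>
      hd12 i (mem_of_mem_erase hi) (ne_of_mem_erase hi) (ne_of_mem_erase hi))] at hg12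
    simp [hcard z1 hz1A] at hg12
    have hnp : d1 p * d2 p = 0 := by
      by_contra hne
      have hR2' : ∑ i ∈ R, d2 i * d2 i = 2 := by
        have h := hsplit fun i => d2 i * d2 i
        rw [g22, e2, ← add_sum_erase A _ hz2A, hz2, sum_congr rfl (fun i hi =>
          show d2 i * d2 i = 1 by
            rw [hr2 i (mem_of_mem_erase hi) (ne_of_mem_erase hi)]
            rcases hu i (mem_of_mem_erase hi) with h' | h' <;> simp [h'])] at h
        simp [hcard z1 hz1A] at h
        omega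
      have hp2 : d2 p * d2 p = 1 := by
        rcases s2 p with h | h | h
        · simp [h]
        · simp [h] at hne
        · simp [h]
      have hq2 : d2 q * d2 q = 1 := by
        rcases s2 q with h | h | h
        · simp [h]
        · rw [h] at hg12; exact absurd (by linarith) hne
        · simp [h]
      have hoff : ∀ i ∈ R, i ∉ P1 → d2 i = 0 := fun i hi hn => by
        have h1 : ∑ k ∈ ({i, p, q} : Finset ι), d2 k * d2 k ≤ ∑ k ∈ R, d2 k * d2 k :=
          sum_le_sum_of_subset_of_nonneg (by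
            intro k hk
            simp only [mem_insert, mem_singleton] at hk
            rcases hk with rfl | rfl | rfl
            · exact hi
            · exact hP1R _ hpP
            · exact hP1R _ hqP) fun k _ _ => mul_self_nonneg _
        rw [sum_insert (by
          simp only [mem_insert, mem_singleton, not_or]
          exact ⟨fun h => hn (h ▸ hpP), fun h => hn (h ▸ hqP)⟩), sum_pair hpq, hp2, hq2, hR2'] at h1
        exact mul_self_eq_zero.1 (le_antisymm (by linarith) (mul_self_nonneg _))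
      have ho2 : (∑ i ∈ A, deg i * d0 i) - deg z1 * d0 z1 + d2 p * deg p + d2 q * deg q = 0 := by
        have h := hsplit fun i => deg i * d2 i
        rw [o2, e2, ← sum_subset (s₁ := P1) (s₂ := R) hP1R
          (fun i hi hn => by rw [hoff i hi hn, mul_zero]), hP1, sum_pair hpq,
          ← add_sum_erase A _ hz2A, hz2, sum_congr rfl (fun i hi => by
            rw [hr2 i (mem_of_mem_erase hi) (ne_of_mem_erase hi)])] at h
        rw [← add_sum_erase A _ hz1A]
        linarith
      have hp := hP1v p hpP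
      have hq := hP1v q hqP
      have hp' := hpos p
      have hq' := hpos q
      rcases hp with hp | hp <;> rcases hq with hq | hq <;> rcases s2 p with h | h | h <;>
        rcases s2 q with h' | h' | h' <;> simp [hp, hq, h, h'] at hg12 ho1 ho2 hne <;> linarith
    have hd2p := hzero (hP1v p hpP) hnp
    have hd2q := hzero (hP1v q hqP) (by linarith)
    have hz := hu z1 hz1A
    rw [hd2p, hd2q, hz2] at hT'
    simp only [Int.cast_zero, add_zero] at hT'
    have hsq : ∀ {c : ℤ}, (c = -1 ∨ c = 1) → (c : ℚ) * (c : ℚ) ^ 2 = c := by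
      rintro c (rfl | rfl) <;> norm_num
    rw [neg_mul, neg_mul, hsq hz, hsq (hP1v p hpP), hsq (hP1v q hqP), neg_div, neg_div,
      hfrac hz, hfrac (hP1v p hpP), hfrac (hP1v q hqP)] at hT'
    have hne0 : ∀ {i : ι} {c : ℤ}, (c = -1 ∨ c = 1) → c * deg i ≠ 0 := fun {i} _ hc =>
      mul_ne_zero (by omega) (hpos i).ne'
    rcases caseA_arith (hne0 (i := z1) hz) (hne0 (i := p) (hP1v p hpP))
      (hne0 (i := q) (hP1v q hqP)) (by linarith)
      (by linarith) with h | h | h
    · exact ((hmemA z1).1 hz1A).1 (hsgnneg hz h)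
    · exact hpe (hsgn (hP1v p hpP) h)
    · exact hqe (hsgn (hP1v q hqP) h)
  · -- second case
    obtain ⟨x, hx, hxu⟩ : ∃ x, x ∈ (A.erase z1).erase z2 ∧
        (A.erase z1).erase z2 = {x} := by
      obtain ⟨x, hx⟩ := card_eq_one.1 (show ((A.erase z1).erase z2).card = 1 by
        rw [card_erase_of_mem (mem_erase.2 ⟨fun h => hzz h.symm, hz2A⟩), hcard z1 hz1A])
      exact ⟨x, by rw [hx]; simp, hx⟩
    have hxA : x ∈ A := mem_of_mem_erase (mem_of_mem_erase hx)
    rw [← add_sum_erase A _ hz1A, hz1, ← add_sum_erase (A.erase z1) _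
      (mem_erase.2 ⟨fun h => hzz h.symm, hz2A⟩), hz2, hxu, sum_singleton,
      hd12 x hxA (ne_of_mem_erase (mem_of_mem_erase hx)) (ne_of_mem_erase hx)] at hg12
    simp only [zero_mul, mul_zero, zero_add] at hg12
    -- exactly one shared constituent, with equal signs
    obtain ⟨p, q, hpP, hqP, hpe, hqe, hdp, hdq, hsum⟩ : ∃ p q, p ∈ P1 ∧ q ∈ P1 ∧ p ≠ e ∧ q ≠ e ∧
        d2 p = d1 p ∧ d2 q = 0 ∧
        ((∑ i ∈ A, deg i * d0 i) - deg z1 * d0 z1 + d1 p * deg p + d1 q * deg q = 0 ∧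
        (1 : ℚ) + (d0 z1 : ℚ) * ((d0 z1 : ℚ) + d2 z1) ^ 2 / deg z1 +
          (-(d1 p : ℚ) * ((d1 p : ℚ) + d2 p) ^ 2 / deg p +
            -(d1 q : ℚ) * ((d1 q : ℚ) + d2 q) ^ 2 / deg q) = 0) := by
      have hp := hP1v p hpP
      have hq := hP1v q hqP
      by_cases h : d2 p = 0
      · exact ⟨q, p, hqP, hpP, hqe, hpe, by
          rw [h] at hg12
          rcases hq with hq | hq <;> rw [hq] at hg12 ⊢ <;> omega, h, by linarith, by linarith⟩
      · refine ⟨p, q, hpP, hqP, hpe, hqe, ?_, ?_, ho1, hT'⟩ <;>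
          rcases hp with hp | hp <;> rcases hq with hq | hq <;> rcases s2 p with h1 | h1 | h1 <;>
          rcases s2 q with h2 | h2 | h2 <;> simp [hp, hq, h1, h2] at hg12 h ⊢
    obtain ⟨ho1, hT'⟩ := hsum
    have hz := hu z1 hz1A
    have hz2z : d2 z1 = d0 z1 := hr2 z1 hz1A hzz
    rw [hdp, hdq, hz2z] at hT'
    have hsq : ∀ {c : ℤ}, (c = -1 ∨ c = 1) → (c : ℚ) * (c : ℚ) ^ 2 = c := by
      rintro c (rfl | rfl) <;> norm_num
    have hsq4 : ∀ {c : ℤ}, (c = -1 ∨ c = 1) → (c : ℚ) * ((c : ℚ) + c) ^ 2 = 4 * c := by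
      rintro c (rfl | rfl) <;> norm_num
    simp only [Int.cast_zero, add_zero, neg_mul, neg_div, hsq4 hz, hsq4 (hP1v p hpP),
      hsq (hP1v q hqP), mul_div_assoc] at hT'
    rw [hfrac hz, hfrac (hP1v p hpP), hfrac (hP1v q hqP)] at hT'
    have hdeg2 : deg z2 * d0 z2 = deg z1 * d0 z1 := by rw [← hbz, bdeg, b0]
    have hsum0 : ∑ i ∈ A, deg i * d0 i = 2 * (deg z1 * d0 z1) + deg x * d0 x := by
      rw [← add_sum_erase A _ hz1A, ← add_sum_erase (A.erase z1) _
        (mem_erase.2 ⟨fun h => hzz h.symm, hz2A⟩), hxu, sum_singleton, hdeg2]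
      ring
    have h8' := h8 z1
    have hnn' := hnn z1
    rw [hz1, hz2z] at h8' hnn'
    refine caseB_arith (Y := d0 z1 * deg z1) (P := d1 p * deg p) (Q := d1 q * deg q) (mul_ne_zero (by have := hP1v p hpP; omega) (hpos p).ne')
      (mul_ne_zero (by have := hP1v q hqP; omega) (hpos q).ne') (fun h => hqe (hsgn (hP1v q hqP) h))
      (by linarith) (by rw [← mul_one_div, ← mul_one_div (4 : ℚ) ((d1 p * deg p : ℤ) : ℚ)]; linarith)
      ?_ ?_
    · rcases hz with hz | hz <;> rw [hz] at h8' ⊢ <;> omega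
    · intro hlt
      have := hpos z1
      rcases hz with hz | hz <;> rw [hz] at hnn' hlt ⊢ <;> omega

end Cfsg.Agent.Lib.EightInvolution
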