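import Cfsg.Agent.Lib.EightInvolution.Local
import Cfsg.Agent.Lib.EightInvolution.Frame
import Cfsg.Agent.Lib.PrincipalKernel.Basic
import Cfsg.Agent.Lib.Blocks.PrincipalInner
import Cfsg.Agent.Lib.Blocks.InvolutionSums
import Cfsg.Agent.Lib.Clifford.Basic
import Mathlib

/-!
# The principal 2-block over a centraliser of type `Z₂ × A₄`

The values of the characters of the principal 2-block at `t` and `t d` give three integer columns
with Cartan matrix `2 I + 2 J`; the involution count at the section of `t` then forces a second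
linear character, so a simple group has no such centraliser.
-/

set_option autoImplicit false

namespace Cfsg.Agent.Lib.EightInvolution

open Cfsg
open Cfsg.Agent.Lib
open Cfsg.Agent.Lib.Blocks
open scoped ComplexConjugate

universe u

section Omega

/-- A primitive cube root of unity. -/
noncomputable def omega3 : ℂ := Complex.exp (2 * Real.pi * Complex.I / (3 : ℕ))

theorem omega3_primitive : IsPrimitiveRoot omega3 3 := Complex.isPrimitiveRoot_exp 3 (by norm_num)

theorem omega3_cube : omega3 ^ 3 = 1 := omega3_primitive.pow_eq_one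

theorem omega3_sum : 1 + omega3 + omega3 ^ 2 = 0 := by
  have h := omega3_primitive.geom_sum_eq_zero (by norm_num)
  simpa [Finset.sum_range_succ] using h

theorem conj_omega3 : conj omega3 = omega3 ^ 2 := by
  rw [← Complex.inv_eq_conj (Complex.norm_eq_one_of_pow_eq_one omega3_cube (by norm_num))]
  refine inv_eq_of_mul_eq_one_right ?_
  rw [← pow_succ', omega3_cube]

theorem omega3_im_ne : omega3.im ≠ 0 := fun h => by
  have h1 : conj omega3 = omega3 := Complex.conj_eq_iff_im.2 h
  rw [conj_omega3] at h1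
  have h2 : omega3 ^ 1 = 1 := by
    rw [pow_one]
    have hne : omega3 ≠ 0 := omega3_primitive.ne_zero (by norm_num)
    exact mul_right_cancel₀ hne (by rw [one_mul]; rw [← sq]; exact h1)
  exact omega3_primitive.pow_ne_one_of_pos_of_lt one_ne_zero (by norm_num) h2

theorem coeff_eq_of_eq_zero {a b c : ℚ} (h : (a : ℂ) + b * omega3 + c * omega3 ^ 2 = 0) :
    a = b ∧ b = c := by
  have h1 : ((a - c : ℚ) : ℂ) + ((b - c : ℚ) : ℂ) * omega3 = 0 := by
    push_cast
    linear_combination h - (c : ℂ) * omega3_sum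
  have h2 := congrArg Complex.im h1
  simp only [Complex.add_im, Complex.mul_im, Complex.ratCast_re, Complex.ratCast_im, zero_mul,
    add_zero, zero_add, Complex.zero_im] at h2
  have h3 : b - c = 0 := by
    have := (mul_eq_zero.1 h2).resolve_right omega3_im_ne
    exact_mod_cast this
  rw [h3, Rat.cast_zero, zero_mul, add_zero, Rat.cast_eq_zero] at h1
  exact ⟨by linarith, by linarith⟩

theorem int_coeff_eq_of_eq_zero {a b c : ℤ} (h : (a : ℂ) + b * omega3 + c * omega3 ^ 2 = 0) :
    a = b ∧ b = c := by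
  have h' := coeff_eq_of_eq_zero (a := (a : ℚ)) (b := (b : ℚ)) (c := (c : ℚ)) (by exact_mod_cast h)
  exact ⟨by exact_mod_cast h'.1, by exact_mod_cast h'.2⟩

/-- A sum of cube roots of unity splits into three natural parts. -/
theorem exists_split {ι : Type*} [Fintype ι] (μ : ι → ℂ) (h : ∀ i, μ i ^ 3 = 1) :
    ∃ a b c : ℕ, (Fintype.card ι : ℂ) = a + b + c ∧
      ∑ i, μ i = (a : ℂ) + b * omega3 + c * omega3 ^ 2 := by
  classical
  have hω : ∀ i, ∃ k : Fin 3, omega3 ^ (k : ℕ) = μ i := fun i => by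
    obtain ⟨k, hk, he⟩ := omega3_primitive.eq_pow_of_pow_eq_one (h i)
    exact ⟨⟨k, hk⟩, he⟩
  choose k hk using hω
  refine ⟨(Finset.univ.filter fun i => k i = 0).card, (Finset.univ.filter fun i => k i = 1).card,
    (Finset.univ.filter fun i => k i = 2).card, ?_, ?_⟩
  · rw [← Finset.card_univ, Finset.card_eq_sum_card_fiberwise (f := k) (t := Finset.univ)
      (fun _ _ => Finset.mem_univ _), Fin.sum_univ_three]
    push_cast
    ring
  · rw [← Finset.sum_fiberwise Finset.univ k μ, Fin.sum_univ_three]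
    have hj : ∀ j : Fin 3, ∑ i ∈ Finset.univ.filter (fun i => k i = j), μ i =
        ((Finset.univ.filter fun i => k i = j).card : ℂ) * omega3 ^ (j : ℕ) := fun j => by
      rw [← nsmul_eq_mul, ← Finset.sum_const]
      exact Finset.sum_congr rfl fun i hi => by rw [← hk i, (Finset.mem_filter.1 hi).2]
    rw [hj, hj, hj]
    simp

end Omega

variable {G : Type u} [Group G] [Finite G] {S : Sylow 2 G} {M : Ideal AlgInt} [M.IsPrime]
  (D : LocalData S)

/-- The centraliser of the involution. -/
abbrev cen : Subgroup G := Subgroup.centralizer ({D.t} : Set G)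

theorem t_pow : ∃ k : ℕ, orderOf D.t = 2 ^ k := ⟨1, by rw [D.ht, pow_one]⟩

theorem t_inv : D.t⁻¹ = D.t :=
  inv_eq_of_mul_eq_one_right (by rw [← sq, ← D.ht, pow_orderOf_eq_one])

theorem commute_cen (y : cen D) : Commute D.t (y : G) :=
  (Subgroup.mem_centralizer_singleton_iff.1 y.2).symm

theorem two_dvd_orderOf_mul {y : cen D} (hy : ¬ 2 ∣ orderOf y) :
    2 ∣ orderOf (D.t * (y : G)) := by
  rw [(commute_cen D y).orderOf_mul_eq_mul_orderOf_of_coprime, D.ht]
  · exact Dvd.intro _ rfl
  · rw [D.ht, Subgroup.orderOf_coe]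
    exact (Nat.prime_two.coprime_iff_not_dvd).2 hy

theorem inv_mul_section (y : cen D) : (D.t * (y : G))⁻¹ = D.t * ((y⁻¹ : cen D) : G) := by
  rw [mul_inv_rev, t_inv, InvMemClass.coe_inv]
  exact ((commute_cen D y).inv_right).eq.symm

open Classical in
theorem blockPart_section (hM : IsPModular 2 M) (χ : IrrCharacter G) {y : cen D}
    (hy : ¬ 2 ∣ orderOf y) :
    blockPart (principalBlock M (cen D)) (fun c : cen D => (χ : G → ℂ) (D.t * (c : G))) y =
      if χ ∈ principalBlock M G then (χ : G → ℂ) (D.t * (y : G)) else 0 := by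
  haveI : Fact (Nat.Prime 2) := ⟨Nat.prime_two⟩
  split_ifs with h
  · exact (PrincipalSection.section_eq_blockPart hM (t_pow D)
      (PrincipalInner.secondMain_holds hM (t_pow D)) h hy).symm
  · refine secondMain_blockPart hM (t_pow D) (isPBlock_blockOf χ) (mem_blockOf_self χ) rfl
      (PrincipalSection.isPBlock_principalBlock M _) (fun hind => h ?_) hy
    rw [isInducedBlock_unique ((PrincipalSection.induces_principal_iff hM (t_pow D)
      (PrincipalSection.isPBlock_principalBlock M _)).2 rfl) hind]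
    exact mem_blockOf_self χ

/-- Column orthogonality of the quotient by the odd core, read in the local principal block. -/
theorem local_sum (hM : IsPModular 2 M) (hsolv : IsPSolvable 2 (cen D)) (y y' : cen D) :
    haveI := D.hN
    ∑ᶠ ψ ∈ principalBlock M (cen D), (ψ : cen D → ℂ) y * (ψ : cen D → ℂ) y' =
      (Nat.card (Subgroup.centralizer ({((y'⁻¹ : cen D) : cen D ⧸ pPrimeCore 2 (cen D))} :
        Set (cen D ⧸ pPrimeCore 2 (cen D)))) : ℂ) *
        Chars.classIndicator ((y'⁻¹ : cen D) : cen D ⧸ pPrimeCore 2 (cen D)) (y : _ ⧸ _) := by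
  haveI := D.hN
  classical
  haveI : Fact (Nat.Prime 2) := ⟨Nat.prime_two⟩
  set O := pPrimeCore 2 (cen D) with hO
  haveI := Fintype.ofFinite (cen D ⧸ O)
  rw [← Chars.column_orthogonality_eq]
  have hbij : Set.BijOn (Chars.inflate O) Set.univ (principalBlock M (cen D)) :=
    ⟨fun φ _ => PrincipalKernel.inflate_mem_principalBlock hM hsolv φ,
      fun a _ b _ h => Chars.inflate_injective O h, fun ψ hψ => by
        obtain ⟨η, hη⟩ := Chars.exists_irr_quotient O ψ fun x hx =>
          HeightPSolv.apply_eq_one_of_mem_principalBlock hM O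
            (PSolvable.pPrimeCore_not_dvd (p := 2)) hψ hx
        exact ⟨η, trivial, Subtype.ext (funext fun g => hη g)⟩⟩
  rw [← finsum_mem_eq_of_bijOn (Chars.inflate O) hbij (fun φ _ => rfl), finsum_mem_univ,
    finsum_eq_sum_of_fintype]
  refine Finset.sum_congr rfl fun φ _ => ?_
  rw [← Chars.irr_inv φ, QuotientGroup.mk_inv, inv_inv]
  rfl

open Classical in
/-- Orthogonality on the section of `t`. -/
theorem section_sum (hM : IsPModular 2 M) {y y' : cen D} (hy : ¬ 2 ∣ orderOf y)
    (hy' : ¬ 2 ∣ orderOf y') :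
    ∑ᶠ χ ∈ principalBlock M G, (χ : G → ℂ) (D.t * (y : G)) * (χ : G → ℂ) (D.t * (y' : G)) =
      ∑ᶠ ψ ∈ principalBlock M (cen D), (ψ : cen D → ℂ) y * (ψ : cen D → ℂ) y' := by
  haveI : Fact (Nat.Prime 2) := ⟨Nat.prime_two⟩
  cases nonempty_fintype G
  rw [← Sections.sum_contrib_mul hM (t_pow D) (C := cen D) rfl
    (PrincipalSection.isPBlock_principalBlock M _) hy hy', finsum_mem_eq_toFinset_sum]
  simp only [t_inv]
  refine Eq.trans ?_ (Finset.sum_congr rfl fun χ _ =>
    (show (if χ ∈ principalBlock M G then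
      (χ : G → ℂ) (D.t * (y : G)) * (χ : G → ℂ) (D.t * (y' : G)) else 0) = _ by
      rw [blockPart_section D hM χ hy, blockPart_section D hM χ hy']
      split_ifs <;> simp))
  rw [← Finset.sum_filter]
  exact Finset.sum_congr (by ext; simp) fun _ _ => rfl

/-- The weighted sum over the whole group vanishes off the odd core. -/
theorem sum_all_sq_div [Fintype G] {a : cen D} (ha : ¬ 2 ∣ orderOf a)
    (haO : a ∉ pPrimeCore 2 (cen D)) :
    ∑ χ : IrrCharacter G, (χ : G → ℂ) (D.t * (a : G)) *
      ((χ : G → ℂ) D.t ^ 2 / (χ : G → ℂ) 1) = 0 := by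
  classical
  haveI : Fact (Nat.Prime 2) := ⟨Nat.prime_two⟩
  set t := D.t with ht
  have hti : t⁻¹ = t := t_inv D
  have hterm : ∀ χ : IrrCharacter G, (χ : G → ℂ) (t * (a : G)) *
      ((χ : G → ℂ) t ^ 2 / (χ : G → ℂ) 1) = (Nat.card G : ℂ)⁻¹ *
        ∑ v : G, (χ : G → ℂ) (t * (a : G)) * conj ((χ : G → ℂ) (v * t * v⁻¹ * t)) := fun χ => by
    rw [← Finset.mul_sum]
    have h1 : ∀ v : G, conj ((χ : G → ℂ) (v * t * v⁻¹ * t)) = (χ : G → ℂ) (t * (v * t * v⁻¹)) :=
      fun v => by
        rw [← Chars.irr_inv]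
        simp only [mul_inv_rev, inv_inv, hti, mul_assoc]
    simp only [h1, sum_irr_mul_conj]
    have := Chars.irr_apply_one_ne_zero χ
    have : (Nat.card G : ℂ) ≠ 0 := Nat.cast_ne_zero.2 Nat.card_pos.ne'
    field_simp
  rw [Finset.sum_congr rfl fun χ _ => hterm χ, ← Finset.mul_sum, Finset.sum_comm]
  refine mul_eq_zero_of_right _ (Finset.sum_eq_zero fun v _ => ?_)
  refine Chars.column_orthogonality_of_not_isConj fun hc => haO ?_
  obtain ⟨c, hc⟩ := isConj_iff.1 hc
  set q := t * (a : G) with hq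
  set g := c⁻¹ * t * c with hg
  have hginv : g * q * g⁻¹ = q⁻¹ := by
    have htt : t * t = 1 := by rw [← sq, ht, ← D.ht, pow_orderOf_eq_one]
    have h1 : t * (v * t * v⁻¹ * t) * t⁻¹ = (v * t * v⁻¹ * t)⁻¹ := by
      simp only [mul_inv_rev, inv_inv, hti]
      calc t * (v * t * v⁻¹ * t) * t = t * v * t * v⁻¹ * (t * t) := by group
        _ = t * v * t * v⁻¹ := by rw [htt, mul_one]
        _ = t * (v * (t * v⁻¹)) := by group
    rw [← hc] at h1
    calc g * q * g⁻¹ = c⁻¹ * (t * (c * q * c⁻¹) * t⁻¹) * c := by rw [hg]; group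
      _ = q⁻¹ := by rw [h1]; group
  have hpq : IsPPart 2 q t := Sections.isPPart_mul 2 (t_pow D) (commute_cen D a)
    (by rwa [Subgroup.orderOf_coe])
  have hqi : q⁻¹ = t * ((a⁻¹ : cen D) : G) := inv_mul_section D a
  have hpq' : IsPPart 2 q⁻¹ t := by
    rw [hqi]
    exact Sections.isPPart_mul 2 (t_pow D) (commute_cen D a⁻¹)
      (by rwa [Subgroup.orderOf_coe, orderOf_inv])
  have hgt : g * t * g⁻¹ = t := isPPart_unique (hginv ▸ isPPart_conj hpq g) hpq'
  have hgC : g ∈ cen D := Subgroup.mem_centralizer_singleton_iff.2 (mul_inv_eq_iff_eq_mul.1 hgt)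
  refine D.inverted a ⟨g, hgC⟩ ha (Subtype.ext ?_)
  have h2 : g * t * g⁻¹ * (g * (a : G) * g⁻¹) = t * ((a⁻¹ : cen D) : G) := by
    rw [← hqi, ← hginv, hq]; group
  rw [hgt] at h2
  exact mul_left_cancel h2

open Classical in
/-- The involution count on the section of `t`, projected on the principal block. -/
theorem sum_sq_div (hM : IsPModular 2 M) (hsolv : IsPSolvable 2 (cen D)) {y : cen D}
    (hy : ¬ 2 ∣ orderOf y) (hyO : y ∉ pPrimeCore 2 (cen D)) :
    ∑ᶠ χ ∈ principalBlock M G, (χ : G → ℂ) (D.t * (y : G)) *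
      ((χ : G → ℂ) D.t ^ 2 / (χ : G → ℂ) 1) = 0 := by
  haveI := D.hN
  haveI : Fact (Nat.Prime 2) := ⟨Nat.prime_two⟩
  cases nonempty_fintype G
  haveI : Fintype (cen D) := Fintype.ofFinite _
  set O := pPrimeCore 2 (cen D) with hO
  rw [finsum_mem_eq_toFinset_sum]
  calc ∑ χ ∈ (principalBlock M G).toFinset, (χ : G → ℂ) (D.t * (y : G)) *
        ((χ : G → ℂ) D.t ^ 2 / (χ : G → ℂ) 1)
      = ∑ χ : IrrCharacter G, (if χ ∈ principalBlock M G then (χ : G → ℂ) (D.t * (y : G)) else 0) *
          ((χ : G → ℂ) D.t ^ 2 / (χ : G → ℂ) 1) := by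
        simp only [ite_mul, zero_mul, ← Finset.sum_filter]
        exact Finset.sum_congr (by ext; simp) fun _ _ => rfl
    _ = ∑ χ : IrrCharacter G, ∑ a : cen D,
          Sections.ker (principalBlock M (cen D)) a y *
            (pRegularPart 2 (fun c : cen D => (χ : G → ℂ) (D.t * (c : G))) a *
              ((χ : G → ℂ) D.t ^ 2 / (χ : G → ℂ) 1)) := by
        refine Finset.sum_congr rfl fun χ _ => ?_
        rw [← blockPart_section D hM χ hy,
          Sections.blockPart_eq_sum_regular hM (PrincipalSection.isPBlock_principalBlock M _) _ hy,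
          Finset.sum_mul]
        exact Finset.sum_congr rfl fun a _ => by ring
    _ = 0 := by
        rw [Finset.sum_comm]
        refine Finset.sum_eq_zero fun a _ => ?_
        rw [← Finset.mul_sum]
        simp only [BrauerFeit.pRegularPart_apply]
        by_cases ha : 2 ∣ orderOf a
        · simp [ha]
        · simp only [if_neg ha]
          by_cases haO : a ∈ O
          · refine mul_eq_zero_of_left ?_ _
            rw [Sections.ker]
            refine mul_eq_zero_of_right _ ?_
            rw [finsum_mem_congr rfl (g := fun ψ : IrrCharacter (cen D) =>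
              (ψ : cen D → ℂ) y * (ψ : cen D → ℂ) 1) (fun ψ hψ => by
              rw [HeightPSolv.apply_eq_one_of_mem_principalBlock hM O
                (PSolvable.pPrimeCore_not_dvd (p := 2)) hψ haO, ← Chars.irr_inv, inv_one, mul_comm]),
              local_sum D hM hsolv, Chars.classIndicator, if_neg, mul_zero]
            rw [inv_one, QuotientGroup.mk_one, isConj_one_right]
            exact fun h => hyO ((QuotientGroup.eq_one_iff _).1 h)
          · rw [sum_all_sq_div D ha haO, mul_zero]

/-- Left multiplication by the central involution keeps integrality of multiplicities. -/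
theorem exists_int_classInner [Fintype (cen D)] (χ : IrrCharacter G) (ψ : IrrCharacter (cen D)) :
    ∃ k : ℤ, classInner (fun c : cen D => (χ : G → ℂ) (D.t * (c : G))) (ψ : cen D → ℂ) = k := by
  let tC : cen D := ⟨D.t, Subgroup.mem_centralizer_singleton_iff.2 rfl⟩
  have hsign : ∀ φ : IrrCharacter (cen D), ∃ e : ℤ, ∀ c,
      (φ : cen D → ℂ) (tC * c) = e * (φ : cen D → ℂ) c := by
    intro φ
    obtain ⟨n, ρ, hρ, hφ⟩ := φ.2
    haveI := hρ
    obtain ⟨e, he⟩ := Clifford.schur_scalar ρ (ρ tC) fun g => by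
      rw [← map_mul, ← map_mul,
        show tC * g = g * tC from Subtype.ext (commute_cen D g).eq]
    have hval : ∀ c, (φ : cen D → ℂ) (tC * c) = e * (φ : cen D → ℂ) c := fun c => by
      rw [← hφ]
      simp only [Representation.character, map_mul, he, smul_mul_assoc, one_mul, map_smul,
        smul_eq_mul]
    have h1 : e * e = 1 := by
      have h2 := hval (tC * 1)
      rw [hval 1, ← mul_assoc tC tC, show tC * tC = 1 from
        Subtype.ext (show D.t * D.t = 1 by rw [← sq, ← D.ht, pow_orderOf_eq_one]), one_mul,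
        ← mul_assoc] at h2
      exact mul_right_cancel₀ (Chars.irr_apply_one_ne_zero φ) (by rw [one_mul]; exact h2.symm)
    rcases mul_self_eq_one_iff.1 h1 with rfl | rfl
    · exact ⟨1, fun c => by rw [hval c, Int.cast_one]⟩
    · exact ⟨-1, fun c => by rw [hval c, Int.cast_neg, Int.cast_one]⟩
  choose e he using hsign
  obtain ⟨m, hm⟩ := Chars.isCharacter_exists_nat_decomp
    (Chars.isCharacter_restrict (H := cen D) (Chars.irr_isCharacter χ))
  have hfun : (fun c : cen D => (χ : G → ℂ) (D.t * (c : G))) =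
      ∑ φ, ((m φ : ℂ) * (e φ : ℂ)) • (φ : cen D → ℂ) := by
    funext c
    have := congrFun hm (tC * c)
    simp only [Finset.sum_apply, Pi.smul_apply, smul_eq_mul, he] at this ⊢
    rw [show D.t * (c : G) = ((tC * c : cen D) : G) from rfl, this]
    exact Finset.sum_congr rfl fun φ _ => by ring
  exact ⟨m ψ * e ψ, by rw [hfun, Chars.classInner_sum_smul_irr]; push_cast; ring⟩

/-- Local characters at `d`: three natural eigenvalue multiplicities. -/
theorem exists_local_split (hM : IsPModular 2 M) {ψ : IrrCharacter (cen D)}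
    (hψ : ψ ∈ principalBlock M (cen D)) :
    ∃ a b c : ℕ, (ψ : cen D → ℂ) 1 = a + b + c ∧
      (ψ : cen D → ℂ) D.d = (a : ℂ) + b * omega3 + c * omega3 ^ 2 := by
  haveI := D.hN
  haveI : Fact (Nat.Prime 2) := ⟨Nat.prime_two⟩
  set O := pPrimeCore 2 (cen D) with hO
  obtain ⟨η, hη⟩ := Chars.exists_irr_quotient O ψ fun x hx =>
    HeightPSolv.apply_eq_one_of_mem_principalBlock hM O
      (PSolvable.pPrimeCore_not_dvd (p := 2)) hψ hx
  obtain ⟨n, ρ, -, hρ⟩ := η.2
  obtain ⟨ι, hι, bas, μ, hμ, hbas⟩ := Chars.exists_eigenbasis_of_pow_eq_one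
    (ρ (D.d : cen D ⧸ O)) (m := 3) (by norm_num)
    (by rw [← map_pow, ← QuotientGroup.mk_pow, (QuotientGroup.eq_one_iff _).2 D.d_cube, map_one])
  obtain ⟨a, b, c, h1, h2⟩ := exists_split μ hμ
  refine ⟨a, b, c, ?_, ?_⟩
  · rw [← hη, QuotientGroup.mk_one, ← hρ, Representation.char_one,
      Module.finrank_eq_card_basis bas, h1]
  · rw [← hη, ← hρ, ← h2]
    exact Chars.trace_eq_sum_of_eigenbasis _ bas μ hbas

/-- The three integer columns. -/
theorem exists_columns (hM : IsPModular 2 M) (χ : IrrCharacter G) (hχ : χ ∈ principalBlock M G) :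
    ∃ a b c : ℤ, (χ : G → ℂ) D.t = a + b + c ∧
      (χ : G → ℂ) (D.t * (D.d : G)) = (a : ℂ) + b * omega3 + c * omega3 ^ 2 := by
  classical
  haveI : Fact (Nat.Prime 2) := ⟨Nat.prime_two⟩
  haveI : Fintype (cen D) := Fintype.ofFinite _
  choose k hk using exists_int_classInner D χ
  have hsp := fun ψ : {ψ : IrrCharacter (cen D) // ψ ∈ principalBlock M (cen D)} =>
    exists_local_split D hM ψ.2
  choose a b c h1 h2 using hsp
  have hval : ∀ y : cen D, ¬ 2 ∣ orderOf y → (χ : G → ℂ) (D.t * (y : G)) =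
      ∑ ψ : {ψ : IrrCharacter (cen D) // ψ ∈ principalBlock M (cen D)},
        (k ψ : ℂ) * ((ψ : IrrCharacter (cen D)) : cen D → ℂ) y := fun y hy => by
    have h := blockPart_section D hM χ hy
    rw [if_pos hχ, PrincipalSection.blockPart_apply] at h
    rw [← h, ← Finset.sum_filter, Finset.sum_subtype (p := fun ψ => ψ ∈ principalBlock M (cen D)) (F := inferInstance)
      (Finset.univ.filter fun ψ => ψ ∈ principalBlock M (cen D)) (fun ψ => by simp)]
    exact Finset.sum_congr rfl fun ψ _ => by rw [hk]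
  have ha := hval 1 PrincipalInner.not_dvd_orderOf_one
  rw [OneMemClass.coe_one, mul_one] at ha
  refine ⟨∑ ψ, k ψ.1 * a ψ, ∑ ψ, k ψ.1 * b ψ, ∑ ψ, k ψ.1 * c ψ, ?_, ?_⟩
  · rw [ha]
    push_cast
    rw [← Finset.sum_add_distrib, ← Finset.sum_add_distrib]
    exact Finset.sum_congr rfl fun ψ _ => by rw [h1]; ring
  · rw [hval D.d D.d_odd]
    push_cast
    rw [Finset.sum_mul, Finset.sum_mul, ← Finset.sum_add_distrib, ← Finset.sum_add_distrib]
    exact Finset.sum_congr rfl fun ψ _ => by rw [h2]; ring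

end Cfsg.Agent.Lib.EightInvolution
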