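import Cfsg.Prelude.Def_Blocks
import Cfsg.Agent.Lib.PSolvable.Core
import Cfsg.Agent.Lib.PSolvable.PSolv
import Cfsg.Agent.Lib.PSolvable.HallHigman
import Mathlib

/-!
# Involution centralisers over an elementary abelian Sylow 2-subgroup of order 8

In a simple group with Sylow 2-subgroup `S ≅ E₈` and solvable involution centralisers the
automiser of `S` has order 7, or there is an involution whose centraliser is, modulo its odd core,
`Z₂ × A₄`.
-/

set_option autoImplicit false

namespace Cfsg.Agent.Lib.EightInvolution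

open Cfsg
open Cfsg.Agent.Lib

theorem odd_of_dvd {m n : ℕ} (h : m ∣ n) (hn : Odd n) : Odd m :=
  Odd.of_dvd_nat hn h

theorem eq_one_of_sq_of_odd {A : Type*} [Group A] {a : A} (h2 : a ^ 2 = 1)
    (ho : Odd (orderOf a)) : a = 1 := by
  rw [← orderOf_eq_one_iff]
  have h := orderOf_dvd_of_pow_eq_one h2
  rcases (Nat.dvd_prime Nat.prime_two).1 h with h' | h'
  · exact h'
  · rw [h'] at ho; exact absurd ho (by decide)

theorem mem_zpowers_of_sq {A : Type*} [Group A] {v x : A} (h2 : v ^ 2 = 1)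
    (hx : x ∈ Subgroup.zpowers v) : x = 1 ∨ x = v := by
  obtain ⟨k, rfl⟩ := Subgroup.mem_zpowers_iff.1 hx
  rcases Int.even_or_odd' k with ⟨j, rfl | rfl⟩
  · exact Or.inl (by rw [zpow_mul, zpow_ofNat, h2, one_zpow])
  · exact Or.inr (by rw [zpow_add, zpow_mul, zpow_ofNat, h2, one_zpow, one_mul, zpow_one])

section Eight

variable {V : Type*} [Group V] [Finite V] (h8 : Nat.card V = 8) (h2 : ∀ x : V, x ^ 2 = 1)

include h2 in
theorem mul_comm_of_sq (x y : V) : x * y = y * x := by
  have hinv : ∀ a : V, a⁻¹ = a := fun a => by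
    refine inv_eq_of_mul_eq_one_right ?_
    rw [← sq, h2]
  calc x * y = (x * y)⁻¹ := (hinv _).symm
    _ = y * x := by rw [mul_inv_rev, hinv, hinv]

include h8 h2 in
/-- Odd groups of automorphisms fixing a nontrivial vector have order dividing 3. -/
theorem card_dvd_three (R : Subgroup (MulAut V)) (hR : Odd (Nat.card R)) {v : V} (hv : v ≠ 1)
    (hfix : ∀ r ∈ R, r v = v) : Nat.card R ∣ 3 := by
  classical
  set Z := Subgroup.zpowers v with hZ
  have hnorm : Z.Normal := ⟨fun a ha g => by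
    rw [mul_comm_of_sq h2 g a, mul_assoc, mul_inv_cancel, mul_one]; exact ha⟩
  have hmap : ∀ r : R, Z.map (r : MulAut V).toMonoidHom = Z := fun r => by
    rw [hZ, MonoidHom.map_zpowers]
    show Subgroup.zpowers ((r : MulAut V) v) = _
    rw [hfix r r.2]
  let q : R → MulAut (V ⧸ Z) := fun r => QuotientGroup.congr Z Z (r : MulAut V) (hmap r)
  have hq : ∀ (r : R) (x : V), q r (x : V ⧸ Z) = (((r : MulAut V) x : V) : V ⧸ Z) := fun _ _ => rfl
  let ψ : R →* Equiv.Perm (V ⧸ Z) :=
    { toFun := fun r => (q r).toEquiv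
      map_one' := by
        ext x
        obtain ⟨y, rfl⟩ := QuotientGroup.mk_surjective x
        rfl
      map_mul' := fun a b => by
        ext x
        obtain ⟨y, rfl⟩ := QuotientGroup.mk_surjective x
        rfl }
  have hinj : Function.Injective ψ := by
    refine (injective_iff_map_eq_one ψ).2 fun r hr => ?_
    have hz : ∀ x : V, x⁻¹ * (r : MulAut V) x ∈ Z := fun x => by
      rw [← QuotientGroup.eq]
      exact (congrArg (fun σ : Equiv.Perm (V ⧸ Z) => σ (x : V ⧸ Z)) hr).symm
    have hsq : r ^ 2 = 1 := by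
      refine Subtype.ext (MulEquiv.ext fun x => ?_)
      rw [sq, Subgroup.coe_mul, MulAut.mul_apply, OneMemClass.coe_one, MulAut.one_apply]
      rcases mem_zpowers_of_sq (h2 v) (hz x) with h | h
      · rw [inv_mul_eq_one.1 h |>.symm, ← inv_mul_eq_one.1 h]
      · rw [inv_mul_eq_iff_eq_mul] at h
        rw [h, map_mul, h, hfix r r.2, mul_assoc, ← sq, h2, mul_one]
    exact eq_one_of_sq_of_odd hsq (odd_of_dvd (orderOf_dvd_natCard r) hR)
  have h4 : Nat.card (V ⧸ Z) = 4 := by
    have h := Subgroup.card_eq_card_quotient_mul_card_subgroup Z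
    haveI : Fact (Nat.Prime 2) := ⟨Nat.prime_two⟩
    have hZ2 : Nat.card Z = 2 := by rw [hZ, Nat.card_zpowers, orderOf_eq_prime (h2 v) hv]
    rw [h8, hZ2] at h
    omega
  haveI := Fintype.ofFinite (V ⧸ Z)
  have h24 : Nat.card (Equiv.Perm (V ⧸ Z)) = 24 := by
    rw [Nat.card_perm, h4]
    decide
  have hdvd : Nat.card R ∣ 24 := h24 ▸ Subgroup.card_dvd_of_injective ψ hinj
  have hcop : (Nat.card R).Coprime 8 := by
    rw [show (8 : ℕ) = 2 ^ 3 by norm_num]
    exact Nat.Coprime.pow_right _ (Nat.coprime_two_right.2 hR)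
  exact hcop.dvd_of_dvd_mul_left (show Nat.card R ∣ 8 * 3 from hdvd)

include h8 h2 in
/-- A nontrivial automorphism of odd order has at most one nontrivial fixed vector. -/
theorem fixed_eq {r : MulAut V} (hr : Odd (orderOf r)) (hr1 : r ≠ 1) {v x : V} (hv : v ≠ 1)
    (hfv : r v = v) (hfx : r x = x) : x = 1 ∨ x = v := by
  by_contra hne
  push Not at hne
  set F : Subgroup V :=
    { carrier := {y | r y = y}
      one_mem' := map_one r
      mul_mem' := fun {a b} (ha : r a = a) (hb : r b = b) =>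
        show r (a * b) = a * b by rw [map_mul, ha, hb]
      inv_mem' := fun {a} (ha : r a = a) => show r a⁻¹ = a⁻¹ by rw [map_inv, ha] } with hF
  have h3 : 3 ≤ Nat.card F := by
    have : ({1, v, x} : Set V) ⊆ (F : Set V) := by
      rintro y (rfl | rfl | rfl)
      · exact F.one_mem
      · exact hfv
      · exact hfx
    have hc := Nat.card_mono (Set.toFinite _) this
    rw [Nat.card_coe_set_eq, Set.ncard_eq_three.2 ⟨1, v, x, hv.symm, hne.1.symm, hne.2.symm, rfl⟩] at hc
    exact hc
  have hdvd : Nat.card F ∣ 8 := h8 ▸ F.card_subgroup_dvd_card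
  have hmul := F.card_mul_index
  rw [h8] at hmul
  have hle : Nat.card F ≤ 8 := Nat.le_of_dvd (by norm_num) hdvd
  have hcases : F.index = 1 ∨ F.index = 2 := by
    interval_cases hcard : Nat.card F <;> omega
  rcases hcases with h | h
  · rw [Subgroup.index_eq_one] at h
    exact hr1 (MulEquiv.ext fun y => show y ∈ F by rw [h]; trivial)
  · refine hr1 (eq_one_of_sq_of_odd (MulEquiv.ext fun y => ?_) hr)
    rw [sq, MulAut.mul_apply, MulAut.one_apply]
    by_cases hy : y ∈ F
    · rw [show r y = y from hy, show r y = y from hy]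
    · have hry : r y ∉ F := fun hm => hy (show r y = y from r.injective hm)
      have hmem : y * r y ∈ F := (Subgroup.mul_mem_iff_of_index_two h).2 (iff_of_false hy hry)
      have h' : r (y * r y) = y * r y := hmem
      rw [map_mul, mul_comm_of_sq h2 y (r y)] at h'
      exact mul_left_cancel h'

end Eight

variable {G : Type*} [Group G] [Finite G]

/-- In a simple group a central-in-normaliser element of an abelian Sylow subgroup is trivial. -/
theorem eq_one_of_normalizer_fixes [IsSimpleGroup G] (hG : ¬ IsMulCommutative G) (S : Sylow 2 G)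
    (hc : ∀ a ∈ (S : Subgroup G), ∀ b ∈ (S : Subgroup G), a * b = b * a) {v : G}
    (hv : v ∈ (S : Subgroup G))
    (hfix : ∀ n ∈ Subgroup.normalizer ((S : Subgroup G) : Set G), n * v * n⁻¹ = v) : v = 1 := by
  classical
  haveI : IsMulCommutative (S : Subgroup G) :=
    ⟨⟨fun a b => Subtype.ext (hc a a.2 b b.2)⟩⟩
  letI : CommGroup (S : Subgroup G) :=
    { (inferInstance : Group (S : Subgroup G)) with
      mul_comm := fun a b => Subtype.ext (hc a a.2 b b.2) }
  let T : G →* (S : Subgroup G) := MonoidHom.transfer (MonoidHom.id (S : Subgroup G))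
  have hker : T.ker = ⊤ := by
    rcases (MonoidHom.normal_ker T).eq_bot_or_eq_top with h | h
    · exact absurd ⟨⟨fun a b => (MonoidHom.ker_eq_bot_iff T).1 h
        (by rw [map_mul, map_mul, mul_comm (T a) (T b)])⟩⟩ hG
    · exact h
  have key : ∀ (k : ℕ) (g₀ : G), g₀⁻¹ * v ^ k * g₀ ∈ (S : Subgroup G) →
      g₀⁻¹ * v ^ k * g₀ = v ^ k := by
    intro k g₀ hk
    obtain ⟨n, hn, he⟩ := S.conj_eq_normalizer_conj_of_mem (v ^ k) g₀ (pow_mem hv k) hk
    rw [he]
    have h1 := hfix n⁻¹ (inv_mem hn)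
    rw [inv_inv] at h1
    calc n⁻¹ * v ^ k * n = (n⁻¹ * v * n) ^ k := by
          have := conj_pow (a := n⁻¹) (b := v) (i := k)
          rw [inv_inv] at this
          exact this.symm
      _ = v ^ k := by rw [h1]
  have h1 : T v = 1 := by rw [← MonoidHom.mem_ker, hker]; trivial
  have h2 := MonoidHom.transfer_eq_pow (MonoidHom.id (S : Subgroup G)) v key
  rw [show MonoidHom.transfer (MonoidHom.id (S : Subgroup G)) v = T v from rfl, h1] at h2
  have h3 : v ^ (S : Subgroup G).index = 1 := (congrArg Subtype.val h2).symm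
  obtain ⟨k, hk⟩ := IsPGroup.iff_orderOf.1 S.isPGroup' ⟨v, hv⟩
  rw [← Subgroup.orderOf_coe] at hk
  have hcop : (orderOf v).Coprime (S : Subgroup G).index := by
    rw [hk]
    exact Nat.Coprime.pow_left _ ((Nat.prime_two.coprime_iff_not_dvd).2 S.not_dvd_index)
  exact orderOf_eq_one_iff.1 (Nat.eq_one_of_dvd_coprimes hcop dvd_rfl (orderOf_dvd_of_pow_eq_one h3))

/-- The data of an involution centraliser of type `Z₂ × A₄` modulo the odd core. -/
structure LocalData (S : Sylow 2 G) where
  t : G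
  ht : orderOf t = 2
  conj_all : ∀ s ∈ (S : Subgroup G), s ≠ 1 → IsConj t s
  d : Subgroup.centralizer ({t} : Set G)
  d_odd : ¬ 2 ∣ orderOf d
  hN : (pPrimeCore 2 (Subgroup.centralizer ({t} : Set G))).Normal
  card_quot : Nat.card (Subgroup.centralizer ({t} : Set G) ⧸
    pPrimeCore 2 (Subgroup.centralizer ({t} : Set G))) = 24
  d_cube : d ^ 3 ∈ pPrimeCore 2 (Subgroup.centralizer ({t} : Set G))
  d_notMem : d ∉ pPrimeCore 2 (Subgroup.centralizer ({t} : Set G))
  not_conj : ∀ c : Subgroup.centralizer ({t} : Set G),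
    c * d * c⁻¹ * d ∉ pPrimeCore 2 (Subgroup.centralizer ({t} : Set G))
  cent_card : Nat.card {c : Subgroup.centralizer ({t} : Set G) ⧸
    pPrimeCore 2 (Subgroup.centralizer ({t} : Set G)) // c * (d : _ ⧸ _) = (d : _ ⧸ _) * c} = 6
  inverted : ∀ z u : Subgroup.centralizer ({t} : Set G), ¬ 2 ∣ orderOf z →
    u * z * u⁻¹ = z⁻¹ → z ∈ pPrimeCore 2 (Subgroup.centralizer ({t} : Set G))

/-- The automiser has order 7, or some involution centraliser has type `Z₂ × A₄`. -/
theorem seven_or_data [IsSimpleGroup G] (hG : ¬ IsMulCommutative G) (S : Sylow 2 G)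
    (hS8 : Nat.card (S : Subgroup G) = 8) (hsq : ∀ x ∈ (S : Subgroup G), x ^ 2 = 1)
    (hC : ∀ t : G, orderOf t = 2 → Group.IsSolvable ↥(Subgroup.centralizer ({t} : Set G))) :
    (Subgroup.centralizer ((S : Subgroup G) : Set G)).relIndex
        (Subgroup.normalizer ((S : Subgroup G) : Set G)) = 7 ∨ Nonempty (LocalData S) := by
  classical
  haveI : Fact (Nat.Prime 2) := ⟨Nat.prime_two⟩
  have h2 : ∀ x : (S : Subgroup G), x ^ 2 = 1 := fun x => Subtype.ext (by simpa using hsq x x.2)
  have hc : ∀ a ∈ (S : Subgroup G), ∀ b ∈ (S : Subgroup G), a * b = b * a := fun a ha b hb =>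
    congrArg Subtype.val (mul_comm_of_sq h2 ⟨a, ha⟩ ⟨b, hb⟩)
  let N := Subgroup.normalizer ((S : Subgroup G) : Set G)
  let φ : N →* MulAut (S : Subgroup G) := (S : Subgroup G).normalizerMonoidHom
  have hφ : ∀ (n : N) (s : (S : Subgroup G)), ((φ n s : (S : Subgroup G)) : G) = n * s * (n : G)⁻¹ :=
    fun _ _ => rfl
  have hcardR : (Subgroup.centralizer ((S : Subgroup G) : Set G)).relIndex N = Nat.card φ.range := by
    rw [Subgroup.relIndex, ← Subgroup.normalizerMonoidHom_ker, Subgroup.index_ker]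
  set R := φ.range with hRdef
  have hRodd : Odd (Nat.card R) := by
    rw [← hcardR, ← Nat.not_even_iff_odd, even_iff_two_dvd]
    intro h
    refine S.not_dvd_index (h.trans ?_)
    refine (Subgroup.index_dvd_of_le (H := (S : Subgroup G).subgroupOf N)
      (K := (Subgroup.centralizer ((S : Subgroup G) : Set G)).subgroupOf N) fun x hx => ?_).trans
      (Dvd.intro _ (Subgroup.relIndex_mul_index (K := N) Subgroup.le_normalizer))
    exact Subgroup.mem_centralizer_iff.2 fun s hs => (hc x hx s hs).symm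
  -- the orbits of the automiser
  let orb : ↥(S : Subgroup G) → Finset ↥(S : Subgroup G) := fun v =>
    haveI := Fintype.ofFinite (S : Subgroup G)
    Finset.univ.filter fun w => ∃ r ∈ R, r v = w
  haveI := Fintype.ofFinite (S : Subgroup G)
  have horb : ∀ v w, w ∈ orb v ↔ ∃ r ∈ R, r v = w := fun v w => by simp [orb]
  have horbeq : ∀ v, (orb v : Set (S : Subgroup G)) = MulAction.orbit R v := fun v => by
    ext w
    rw [Finset.mem_coe, horb]
    exact ⟨fun ⟨r, hr, e⟩ => ⟨⟨r, hr⟩, e⟩, fun ⟨r, e⟩ => ⟨r, r.2, e⟩⟩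
  have hstab : ∀ v : (S : Subgroup G), v ≠ 1 →
      Nat.card (MulAction.stabilizer R v) ∣ 3 := fun v hv => by
    rw [← Subgroup.card_map_of_injective (K := MulAction.stabilizer R v) R.subtype_injective]
    refine card_dvd_three hS8 h2 _ ?_ hv fun r hr => ?_
    · refine odd_of_dvd ?_ hRodd
      exact (Subgroup.card_dvd_of_le (Subgroup.map_subtype_le _))
    · obtain ⟨r', hr', rfl⟩ := hr
      exact hr'
  have hmulcard : ∀ v : (S : Subgroup G),
      (orb v).card * Nat.card (MulAction.stabilizer R v) = Nat.card R := fun v => by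
    rw [← (MulAction.stabilizer R v).card_mul_index, MulAction.index_stabilizer, ← horbeq v,
      Set.ncard_coe_finset, mul_comm]
  have hoddorb : ∀ v, Odd (orb v).card := fun v =>
    (Nat.odd_mul.1 (by rw [hmulcard v]; exact hRodd)).1
  have hself : ∀ v, v ∈ orb v := fun v => (horb v v).2 ⟨1, R.one_mem, rfl⟩
  have hbig : ∀ v : (S : Subgroup G), v ≠ 1 → 3 ≤ (orb v).card := fun v hv => by
    have hne : (orb v).card ≠ 1 := fun h => by
      obtain ⟨w, hw⟩ := Finset.card_eq_one.1 h
      have hvw := hself v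
      rw [hw, Finset.mem_singleton] at hvw
      refine hv (Subtype.ext (eq_one_of_normalizer_fixes hG S hc v.2 fun n hn => ?_))
      have h1 : φ ⟨n, hn⟩ v ∈ orb v := (horb v _).2 ⟨_, ⟨_, rfl⟩, rfl⟩
      rw [hw, Finset.mem_singleton, ← hvw] at h1
      exact congrArg Subtype.val h1
    have := Finset.card_pos.2 ⟨v, hself v⟩
    obtain ⟨k, hk⟩ := hoddorb v
    omega
  have hdisj : ∀ v w, w ∉ orb v → Disjoint (orb v) (orb w) := fun v w hw =>
    Finset.disjoint_left.2 fun x hx hx' => by
      obtain ⟨r, hr, e⟩ := (horb v x).1 hx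
      obtain ⟨r', hr', e'⟩ := (horb w x).1 hx'
      refine hw ((horb v w).2 ⟨r'⁻¹ * r, R.mul_mem (R.inv_mem hr') hr, ?_⟩)
      rw [MulAut.mul_apply, e, ← e', MulAut.inv_apply_self]
  have hsub : ∀ v : (S : Subgroup G), v ≠ 1 → orb v ⊆ Finset.univ.erase 1 := fun v hv x hx => by
    obtain ⟨r, -, rfl⟩ := (horb v x).1 hx
    exact Finset.mem_erase.2 ⟨fun h => hv (r.injective (h.trans (map_one r).symm)),
      Finset.mem_univ _⟩
  have h7 : (Finset.univ.erase (1 : (S : Subgroup G))).card = 7 := by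
    rw [Finset.card_erase_of_mem (Finset.mem_univ _), Finset.card_univ, ← Nat.card_eq_fintype_card,
      hS8]
  have htrans : ∀ v : (S : Subgroup G), v ≠ 1 → orb v = Finset.univ.erase 1 := fun v hv => by
    refine Finset.eq_of_subset_of_card_le (hsub v hv) (not_lt.1 fun hlt => ?_)
    obtain ⟨w, hw, hwv⟩ := Finset.exists_mem_notMem_of_card_lt_card hlt
    have hw1 := (Finset.mem_erase.1 hw).1
    have hd := hdisj v w hwv
    have hsub2 := Finset.union_subset (hsub v hv) (hsub w hw1)
    have hle := Finset.card_le_card hsub2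
    rw [Finset.card_union_of_disjoint hd, h7] at hle
    rcases hle.lt_or_eq with hlt2 | heq
    · have : (orb v ∪ orb w).card < (Finset.univ.erase (1 : (S : Subgroup G))).card := by
        rw [Finset.card_union_of_disjoint hd, h7]; exact hlt2
      obtain ⟨x, hx, hxn⟩ := Finset.exists_mem_notMem_of_card_lt_card this
      rw [Finset.mem_union, not_or] at hxn
      have hx1 := (Finset.mem_erase.1 hx).1
      have h3 := Finset.card_le_card (Finset.union_subset hsub2 (hsub x hx1))
      rw [Finset.card_union_of_disjoint (Finset.disjoint_union_left.2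
        ⟨hdisj v x hxn.1, hdisj w x hxn.2⟩), Finset.card_union_of_disjoint hd, h7] at h3
      have := hbig v hv; have := hbig w hw1; have := hbig x hx1
      omega
    · obtain ⟨a, ha⟩ := hoddorb v
      obtain ⟨b, hb⟩ := hoddorb w
      omega
  haveI : Nontrivial (S : Subgroup G) := Finite.one_lt_card_iff_nontrivial.1 (by rw [hS8]; norm_num)
  obtain ⟨v, hv⟩ := exists_ne (1 : (S : Subgroup G))
  have hR := hmulcard v
  rw [htrans v hv, h7] at hR
  rcases (Nat.dvd_prime Nat.prime_three).1 (hstab v hv) with h1 | h3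
  · left
    rw [hcardR, ← hR, h1]
  right
  -- an element of odd order fixing `t`
  set t : G := (v : G) with htdef
  obtain ⟨r, hr1⟩ : ∃ r : MulAction.stabilizer R v, r ≠ 1 := by
    haveI : Nontrivial (MulAction.stabilizer R v) :=
      Finite.one_lt_card_iff_nontrivial.1 (by omega)
    exact exists_ne 1
  obtain ⟨d0, hd0⟩ := ((r : R) : R).2
  obtain ⟨a, m, hm, hdm⟩ := Nat.exists_eq_two_pow_mul_odd (n := orderOf (d0 : G)) (orderOf_pos _).ne'
  set d1 : N := d0 ^ (2 ^ a) with hd1
  have hd1odd : ¬ 2 ∣ orderOf (d1 : G) := by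
    rw [hd1, Subgroup.coe_pow, orderOf_pow, hdm, Nat.gcd_eq_right (Dvd.intro _ rfl),
      Nat.mul_div_cancel_left _ (pow_pos two_pos a)]
    exact hm.not_two_dvd_nat
  have hrfix : ((r : R) : MulAut (S : Subgroup G)) v = v := r.2
  have hd1r : φ d1 = ((r : R) : MulAut (S : Subgroup G)) ^ (2 ^ a) := by
    rw [hd1, map_pow, hd0]
  have hd1v : φ d1 v = v := by
    rw [hd1r]
    generalize 2 ^ a = k
    induction k with
    | zero => rfl
    | succ k ih => rw [pow_succ', MulAut.mul_apply, ih, hrfix]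
  have hd1ne : φ d1 ≠ 1 := by
    rw [hd1r]
    intro h
    apply hr1
    have hodd : Odd (orderOf ((r : R) : MulAut (S : Subgroup G))) := by
      rw [Subgroup.orderOf_coe]
      exact odd_of_dvd (orderOf_dvd_natCard _) hRodd
    have h' := orderOf_dvd_of_pow_eq_one h
    have h1 : orderOf ((r : R) : MulAut (S : Subgroup G)) = 1 :=
      Nat.eq_one_of_dvd_coprimes (Nat.Coprime.pow_right a (Nat.coprime_two_right.2 hodd)) dvd_rfl h'
    rw [orderOf_eq_one_iff] at h1
    exact Subtype.ext (Subtype.ext h1)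
  have ht : orderOf t = 2 := by
    rw [htdef, Subgroup.orderOf_coe]
    exact orderOf_eq_prime (h2 v) hv
  have hdC : (d1 : G) ∈ Subgroup.centralizer ({t} : Set G) := by
    rw [Subgroup.mem_centralizer_singleton_iff]
    have h := congrArg Subtype.val hd1v
    rw [hφ] at h
    exact mul_inv_eq_iff_eq_mul.1 h
  have hSC : (S : Subgroup G) ≤ Subgroup.centralizer ({t} : Set G) := fun s hs =>
    Subgroup.mem_centralizer_singleton_iff.2 (hc s hs _ v.2)
  let C := Subgroup.centralizer ({t} : Set G)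
  haveI := PSolvable.pPrimeCore_characteristic (p := 2) (G := C)
  set O := pPrimeCore 2 C with hO
  let d : C := ⟨(d1 : G), hdC⟩
  let π := QuotientGroup.mk' O
  haveI : Group.IsSolvable C := hC t ht
  haveI : Group.IsSolvable (C ⧸ O) :=
    Group.isSolvable_of_surjective (QuotientGroup.mk'_surjective O)
  have hcore : pPrimeCore 2 (C ⧸ O) = ⊥ := PSolvable.pPrimeCore_quotient_eq_bot
  set T := pCore 2 (C ⧸ O) with hT
  have hTc : Subgroup.centralizer (T : Set (C ⧸ O)) ≤ T :=
    PSolvable.centralizer_pCore_le_of_isPSolvable PSolvable.isPSolvable_of_isSolvable hcore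
  let SC : Sylow 2 C := S.subtype hSC
  have hSCmem : ∀ {x : C}, x ∈ (SC : Subgroup C) ↔ (x : G) ∈ (S : Subgroup G) := fun {x} =>
    Subgroup.mem_subgroupOf
  let P : Sylow 2 (C ⧸ O) := SC.mapSurjective (QuotientGroup.mk'_surjective O)
  have hPcoe : (P : Subgroup (C ⧸ O)) = (SC : Subgroup C).map π := Sylow.coe_mapSurjective _ _
  have hTP : T ≤ (P : Subgroup (C ⧸ O)) := by
    haveI : T.Normal := by
      haveI := PSolvable.pCore_characteristic (p := 2) (G := C ⧸ O); infer_instance
    exact (PSolvable.pCore_isPGroup (p := 2) (G := C ⧸ O)).le_sylow_of_normal P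
  have hPc : (P : Subgroup (C ⧸ O)) ≤ Subgroup.centralizer (T : Set (C ⧸ O)) := fun x hx => by
    refine Subgroup.mem_centralizer_iff.2 fun y hy => ?_
    have hy' := hTP hy
    rw [hPcoe] at hx hy'
    obtain ⟨a, ha, rfl⟩ := hx
    obtain ⟨b, hb, rfl⟩ := hy'
    rw [← map_mul, ← map_mul]
    exact congrArg π (Subtype.ext (hc _ (hSCmem.1 hb) _ (hSCmem.1 ha)))
  have hPT : (P : Subgroup (C ⧸ O)) = T := le_antisymm (hPc.trans hTc) hTP
  have hinj : ∀ x ∈ (SC : Subgroup C), x ∈ O → x = 1 := fun x hx hx' => by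
    have h1 := PSolvable.inf_eq_bot_of_isPGroup_of_coprime (H := (SC : Subgroup C)) (K := O)
      SC.isPGroup' PSolvable.pPrimeCore_coprime
    have h2 : x ∈ (SC : Subgroup C) ⊓ O := ⟨hx, hx'⟩
    rwa [h1, Subgroup.mem_bot] at h2
  have hT8 : Nat.card T = 8 := by
    rw [← hPT, hPcoe, ← hS8]
    refine (Nat.card_congr (Equiv.ofBijective (fun s : (S : Subgroup G) =>
      (⟨π ⟨(s : G), hSC s.2⟩, Subgroup.mem_map_of_mem π (hSCmem.2 s.2)⟩ :
        (SC : Subgroup C).map π)) ⟨fun a b h => ?_, fun y => ?_⟩)).symm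
    · have h1 : π ⟨(a : G), hSC a.2⟩ = π ⟨(b : G), hSC b.2⟩ := congrArg Subtype.val h
      have h2 := hinj _ ((SC : Subgroup C).mul_mem ((SC : Subgroup C).inv_mem (hSCmem.2 a.2))
        (hSCmem.2 b.2)) (QuotientGroup.eq.1 h1)
      have h3 := inv_mul_eq_one.1 h2
      exact Subtype.ext (congrArg (fun z : C => (z : G)) h3 :)
    · obtain ⟨_, x, hx, rfl⟩ := y
      exact ⟨⟨(x : G), hSCmem.1 hx⟩, rfl⟩
  have hTn : T.Normal := by
    haveI := PSolvable.pCore_characteristic (p := 2) (G := C ⧸ O); infer_instance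
  have hTsq : ∀ x : T, x ^ 2 = 1 := fun ⟨x, hx⟩ => by
    refine Subtype.ext ?_
    rw [← hPT, hPcoe] at hx
    obtain ⟨a, ha, rfl⟩ := hx
    show π a ^ 2 = 1
    rw [← map_pow, show a ^ 2 = 1 from Subtype.ext (by simpa using hsq _ (hSCmem.1 ha)), map_one]
  let tC : C := ⟨t, hSC v.2⟩
  have htT : π tC ∈ T := by rw [← hPT, hPcoe]; exact Subgroup.mem_map_of_mem π (hSCmem.2 v.2)
  have htne : π tC ≠ 1 := fun h => by
    have h1 : tC = 1 := hinj tC (hSCmem.2 v.2) ((QuotientGroup.eq_one_iff _).1 h)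
    have h2 : t = 1 := congrArg Subtype.val h1
    rw [h2, orderOf_one] at ht
    exact absurd ht (by norm_num)
  have htcent : ∀ x : C ⧸ O, x * π tC = π tC * x := fun x => by
    obtain ⟨c, rfl⟩ := QuotientGroup.mk'_surjective O x
    rw [← map_mul, ← map_mul]
    exact congrArg π (Subtype.ext (Subgroup.mem_centralizer_singleton_iff.1 c.2))
  -- the quotient by `T`
  let ψ : (C ⧸ O) →* MulAut T := MulAut.conjNormal
  have hψ : ∀ (x : C ⧸ O) (y : T), ((ψ x y : T) : C ⧸ O) = x * y * x⁻¹ := fun _ _ =>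
    MulAut.conjNormal_apply _ _
  have hker : ψ.ker = T := le_antisymm (fun x hx => hTc (Subgroup.mem_centralizer_iff.2
      fun y hy => by
        have := congrArg (fun e : MulAut T => ((e ⟨y, hy⟩ : T) : C ⧸ O)) (MonoidHom.mem_ker.1 hx)
        simp only [hψ, MulAut.one_apply] at this
        exact (mul_inv_eq_iff_eq_mul.1 this).symm)) fun x hx => MonoidHom.mem_ker.2
      (MulEquiv.ext fun y => Subtype.ext (by
        rw [hψ, MulAut.one_apply, show x * (y : C ⧸ O) = y * x from
          congrArg Subtype.val (mul_comm_of_sq hTsq ⟨x, hx⟩ y), mul_assoc, mul_inv_cancel, mul_one]))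
  have hindex : T.index = Nat.card ψ.range := by rw [← Subgroup.index_ker, hker]
  have hidxodd : Odd T.index := by
    rw [← Nat.not_even_iff_odd, even_iff_two_dvd, ← hPT]
    exact P.not_dvd_index
  have hidx3 : T.index ∣ 3 := by
    rw [hindex] at hidxodd ⊢
    refine card_dvd_three hT8 hTsq _ hidxodd (v := ⟨π tC, htT⟩)
      (fun h => htne (congrArg Subtype.val h)) ?_
    rintro _ ⟨x, rfl⟩
    refine Subtype.ext ?_
    rw [hψ]
    show x * π tC * x⁻¹ = π tC
    rw [htcent, mul_assoc, mul_inv_cancel, mul_one]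
  -- the element `d`
  have hdT : π d ∉ T := fun h => hd1ne (MulEquiv.ext fun s => Subtype.ext (by
    rw [← hker] at h
    have hs : π ⟨(s : G), hSC s.2⟩ ∈ T := by
      rw [← hPT, hPcoe]; exact Subgroup.mem_map_of_mem π (hSCmem.2 s.2)
    have h1 := congrArg (fun e : MulAut T => ((e ⟨_, hs⟩ : T) : C ⧸ O)) (MonoidHom.mem_ker.1 h)
    simp only [hψ, MulAut.one_apply] at h1
    rw [← map_inv, ← map_mul, ← map_mul] at h1
    let a : C := ⟨((φ d1 s : (S : Subgroup G)) : G), hSC (φ d1 s).2⟩
    have ha : a = d * ⟨(s : G), hSC s.2⟩ * d⁻¹ := Subtype.ext (hφ d1 s)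
    have h2 := hinj _ ((SC : Subgroup C).mul_mem ((SC : Subgroup C).inv_mem
      (hSCmem.2 (show ((a : C) : G) ∈ (S : Subgroup G) from (φ d1 s).2))) (hSCmem.2 s.2))
      (QuotientGroup.eq.1 (ha ▸ h1))
    have h3 : a = ⟨(s : G), hSC s.2⟩ := inv_mul_eq_one.1 h2
    rw [MulAut.one_apply]
    exact congrArg (fun z : C => (z : G)) h3))
  have hidx : T.index = 3 := by
    rcases (Nat.dvd_prime Nat.prime_three).1 hidx3 with h | h
    · rw [Subgroup.index_eq_one] at h
      exact absurd (h ▸ Subgroup.mem_top _) hdT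
    · exact h
  have h24 : Nat.card (C ⧸ O) = 24 := by rw [← T.card_mul_index, hT8, hidx]
  -- odd order elements
  have hodd1 : ∀ x : C ⧸ O, x ∈ T → ¬ 2 ∣ orderOf x → x = 1 := fun x hx ho =>
    eq_one_of_sq_of_odd (by simpa using congrArg Subtype.val (hTsq ⟨x, hx⟩))
      (Nat.odd_iff.2 (Nat.two_dvd_ne_zero.1 ho))
  have hdvdπ : ∀ x : C, orderOf (π x) ∣ orderOf x := fun x => orderOf_map_dvd π x
  haveI : Fact (Nat.Prime 3) := ⟨Nat.prime_three⟩
  haveI : IsCyclic ((C ⧸ O) ⧸ T) :=
    isCyclic_of_prime_card (p := 3) (by rw [← Subgroup.index_eq_card]; exact hidx)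
  have habel : ∀ a b : (C ⧸ O) ⧸ T, a * b = b * a := fun a b => by
    haveI := IsCyclic.commutative (α := (C ⧸ O) ⧸ T)
    exact Std.Commutative.comm (op := (· * ·)) a b
  have hinv : ∀ x y : C ⧸ O, ¬ 2 ∣ orderOf x → y * x * y⁻¹ * x ∈ T → x = 1 := by
    intro x y ho hm
    have h1 : ((y * x * y⁻¹ * x : C ⧸ O) : (C ⧸ O) ⧸ T) = 1 := (QuotientGroup.eq_one_iff _).2 hm
    rw [QuotientGroup.mk_mul, QuotientGroup.mk_mul, QuotientGroup.mk_mul, QuotientGroup.mk_inv,
      habel (y : (C ⧸ O) ⧸ T) x, mul_assoc (x : (C ⧸ O) ⧸ T), mul_inv_cancel, mul_one,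
      ← QuotientGroup.mk_mul, QuotientGroup.eq_one_iff, ← sq] at h1
    refine eq_one_of_sq_of_odd (hodd1 _ h1 fun h => ho ?_) (Nat.odd_iff.2 (Nat.two_dvd_ne_zero.1 ho))
    exact h.trans (orderOf_pow_dvd 2)
  have hdord : ¬ 2 ∣ orderOf d := by rw [← Subgroup.orderOf_coe]; exact hd1odd
  have hπdord : ¬ 2 ∣ orderOf (π d) := fun h => hdord (h.trans (hdvdπ d))
  have hπd1 : π d ≠ 1 := fun h => hdT (h ▸ T.one_mem)
  refine ⟨{
    t := t
    ht := ht
    conj_all := ?_
    d := d
    d_odd := hdord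
    hN := inferInstance
    card_quot := h24
    d_cube := ?_
    d_notMem := fun h => hπd1 ((QuotientGroup.eq_one_iff _).2 h)
    not_conj := ?_
    cent_card := ?_
    inverted := ?_ }⟩
  · intro s hs hs1
    have hmem : (⟨s, hs⟩ : (S : Subgroup G)) ∈ orb v := by
      rw [htrans v hv]
      exact Finset.mem_erase.2 ⟨fun h => hs1 (congrArg Subtype.val h), Finset.mem_univ _⟩
    obtain ⟨_, ⟨n, rfl⟩, he⟩ := (horb v _).1 hmem
    exact isConj_iff.2 ⟨n, congrArg Subtype.val he⟩
  · rw [← QuotientGroup.eq_one_iff]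
    refine hodd1 _ ?_ fun h => hdord ?_
    · have := T.pow_index_mem (π d)
      rw [hidx] at this
      exact this
    · exact h.trans ((orderOf_map_dvd π (d ^ 3)).trans (orderOf_pow_dvd 3))
  · intro c h
    refine hπd1 (hinv (π d) (π c) hπdord ?_)
    rw [← map_inv, ← map_mul, ← map_mul, ← map_mul, show π (c * d * c⁻¹ * d) = 1 from
      (QuotientGroup.eq_one_iff _).2 h]
    exact T.one_mem
  · set X := Subgroup.centralizer ({π d} : Set (C ⧸ O)) with hX
    have hXmem : ∀ c, c ∈ X ↔ c * π d = π d * c := fun c => Subgroup.mem_centralizer_singleton_iff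
    have hcardX : Nat.card X = 6 := by
      have hle : T ⊓ X ≤ Subgroup.zpowers (π tC) := by
        intro x hx
        have hfix : ψ (π d) ⟨x, hx.1⟩ = ⟨x, hx.1⟩ := Subtype.ext (by
          rw [hψ]; exact mul_inv_eq_iff_eq_mul.2 ((hXmem x).1 hx.2).symm)
        have hfixt : ψ (π d) ⟨π tC, htT⟩ = ⟨π tC, htT⟩ := Subtype.ext (by
          rw [hψ]; exact mul_inv_eq_iff_eq_mul.2 (htcent _))
        have hne1 : ψ (π d) ≠ 1 := fun h => hdT (hker ▸ MonoidHom.mem_ker.2 h)
        rcases fixed_eq hT8 hTsq (odd_of_dvd (orderOf_map_dvd ψ (π d))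
          (Nat.odd_iff.2 (Nat.two_dvd_ne_zero.1 hπdord))) hne1
          (v := ⟨π tC, htT⟩) (fun h => htne (congrArg Subtype.val h)) hfixt hfix with h | h
        · rw [show x = 1 from congrArg Subtype.val h]; exact Subgroup.one_mem _
        · rw [show x = π tC from congrArg Subtype.val h]; exact Subgroup.mem_zpowers _
      have hinf2 : Nat.card (T ⊓ X : Subgroup (C ⧸ O)) = 2 := by
        have h1 : Nat.card (Subgroup.zpowers (π tC)) = 2 := by
          rw [Nat.card_zpowers]
          exact orderOf_eq_prime (by simpa using congrArg Subtype.val (hTsq ⟨_, htT⟩)) htne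
        have h2 : Subgroup.zpowers (π tC) ≤ T ⊓ X := Subgroup.zpowers_le.2
          ⟨htT, (hXmem _).2 (htcent (π d)).symm⟩
        rw [le_antisymm hle h2, h1]
      have hrel : T.relIndex X = 3 := by
        have h1 : T.relIndex X ∣ 3 := hidx ▸ Subgroup.relIndex_dvd_index_of_normal T X
        rcases (Nat.dvd_prime Nat.prime_three).1 h1 with h | h
        · exact absurd ((Subgroup.relIndex_eq_one.1 h) ((hXmem _).2 rfl)) hdT
        · exact h
      have h1 := Subgroup.card_mul_index (T.subgroupOf X)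
      rw [show Nat.card (T.subgroupOf X) = Nat.card (T ⊓ X : Subgroup (C ⧸ O)) from
        (Nat.card_congr (Subgroup.subgroupOfEquivOfLe (inf_le_right : T ⊓ X ≤ X)).toEquiv).symm.trans
          (by rw [Subgroup.inf_subgroupOf_right]) |>.symm] at h1
      change Nat.card (T ⊓ X : Subgroup (C ⧸ O)) * T.relIndex X = _ at h1
      rw [hinf2, hrel] at h1
      exact h1.symm
    rw [← hcardX]
    exact Nat.card_congr (Equiv.subtypeEquivRight fun c => (hXmem c).symm)
  · intro z u hz hu
    rw [← QuotientGroup.eq_one_iff]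
    refine hinv (π z) (π u) (fun h => hz (h.trans (hdvdπ z))) ?_
    rw [← map_inv, ← map_mul, ← map_mul, ← map_mul, hu, inv_mul_cancel, map_one]
    exact T.one_mem

end Cfsg.Agent.Lib.EightInvolution
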