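import Cfsg.Agent.Lib.EightInvolution.Columns
import Cfsg.Agent.Lib.CharCount.Basic
import Mathlib

/-!
# No simple group has an involution centraliser of type `Z₂ × A₄` over `E₈`
-/

set_option autoImplicit false

namespace Cfsg.Agent.Lib.EightInvolution

open Cfsg
open Cfsg.Agent.Lib
open Cfsg.Agent.Lib.Blocks
open scoped ComplexConjugate

universe u

variable {G : Type u} [Group G] [Finite G]

theorem eq_trivial_of_degree_one [IsSimpleGroup G] (hG : ¬ IsMulCommutative G)
    (χ : IrrCharacter G) (h : (χ : G → ℂ) 1 = 1) : χ = Chars.trivialIrr G := by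
  obtain ⟨φ, hφ⟩ := Chars.exists_hom_of_degree_one (Chars.irr_isCharacter χ) h
  have hker : φ.ker = ⊤ := by
    rcases (MonoidHom.normal_ker φ).eq_bot_or_eq_top with h' | h'
    · exact absurd ⟨⟨fun a b => (MonoidHom.ker_eq_bot_iff φ).1 h'
        (by rw [map_mul, map_mul, mul_comm (φ a) (φ b)])⟩⟩ hG
    · exact h'
  refine Subtype.ext (funext fun g => ?_)
  rw [hφ]
  show ((φ g : ℂˣ) : ℂ) = 1
  rw [show φ g = 1 by rw [← MonoidHom.mem_ker, hker]; trivial, Units.val_one]

theorem irrConj_mem_principalBlock {M : Ideal AlgInt} {χ : IrrCharacter G}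
    (h : χ ∈ principalBlock M G) : Chars.irrConj χ ∈ principalBlock M G := by
  intro g
  have hc : Subgroup.centralizer ({g⁻¹} : Set G) = Subgroup.centralizer ({g} : Set G) := by
    ext x
    rw [Subgroup.mem_centralizer_singleton_iff, Subgroup.mem_centralizer_singleton_iff]
    exact ⟨fun e => (Commute.inv_right_iff.1 e : Commute x g),
      fun e => (Commute.inv_right (e : Commute x g))⟩
  have hx := h g⁻¹
  simp only [centralChar, hc] at hx
  simp only [centralChar, Chars.irrConj_apply, ← Chars.irr_inv, inv_one]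
  exact hx

/-- Expanding products of two columns. -/
theorem sum_expand {ι : Type*} [Fintype ι] (u v : ι → ℤ) :
    ∑ i, (u i : ℂ) * (v i : ℂ) = ((∑ i, u i * v i : ℤ) : ℂ) := by push_cast; rfl

theorem false_of_data [IsSimpleGroup G] (hG : ¬ IsMulCommutative G) {S : Sylow 2 G}
    (hS8 : Nat.card (S : Subgroup G) = 8) (D : LocalData S)
    (hsolv : Group.IsSolvable (cen D)) : False := by
  classical
  haveI : Fact (Nat.Prime 2) := ⟨Nat.prime_two⟩
  obtain ⟨M, hM⟩ := CharCount.exists_isPModular 2 Nat.prime_two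
  haveI := isPModular_isPrime hM
  haveI := hsolv
  haveI := D.hN
  have hps : IsPSolvable 2 (cen D) := PSolvable.isPSolvable_of_isSolvable
  cases nonempty_fintype G
  let ι := {χ : IrrCharacter G // χ ∈ principalBlock M G}
  have hsum : ∀ f : IrrCharacter G → ℂ,
      ∑ᶠ χ ∈ principalBlock M G, f χ = ∑ i : ι, f i.1 := fun f => by
    rw [finsum_mem_eq_toFinset_sum, Finset.sum_subtype (p := fun χ => χ ∈ principalBlock M G)
      (F := inferInstance) _ (fun χ => Set.mem_toFinset)]
  have hcol := fun i : ι => exists_columns D hM i.1 i.2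
  choose d0 d1 d2 ht htd using hcol
  have hdeg := fun i : ι => Chars.isIrrCharacter_exists_degree_pos i.1.2
  choose n hn0 hn using hdeg
  let deg : ι → ℤ := fun i => (n i : ℤ)
  let e : ι := ⟨Chars.trivialIrr G, BrauerMap.trivialIrr_mem_principalBlock M⟩
  let bar : ι → ι := fun i => ⟨Chars.irrConj i.1, irrConj_mem_principalBlock i.2⟩
  have hdegC : ∀ i, (deg i : ℂ) = (i.1 : G → ℂ) 1 := fun i => by
    rw [hn]; exact Int.cast_natCast _
  have hpos : ∀ i, 0 < deg i := fun i => Int.natCast_pos.2 (hn0 i)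
  have he : deg e = 1 := by
    have h := hdegC e
    rw [show (e.1 : G → ℂ) 1 = 1 from rfl] at h
    exact_mod_cast h
  have hone : ∀ i, deg i = 1 → i = e := fun i h => Subtype.ext
    (eq_trivial_of_degree_one hG i.1 (by rw [← hdegC, h, Int.cast_one]))
  -- the marked point
  have htriv : d0 e = 1 ∧ d1 e = 0 ∧ d2 e = 0 := by
    have h1 := ht e
    have h2 := htd e
    rw [show (e.1 : G → ℂ) D.t = 1 from rfl] at h1
    rw [show (e.1 : G → ℂ) (D.t * (D.d : G)) = 1 from rfl] at h2
    have h3 : ((d0 e - 1 : ℤ) : ℂ) + d1 e * omega3 + d2 e * omega3 ^ 2 = 0 := by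
      push_cast; linear_combination -h2
    obtain ⟨h4, h5⟩ := int_coeff_eq_of_eq_zero h3
    have h6 : d0 e + d1 e + d2 e = 1 := by exact_mod_cast h1.symm
    omega
  -- conjugation
  have hbar : ∀ i, deg (bar i) = deg i ∧ d0 (bar i) = d0 i ∧ d2 (bar i) = d1 i := by
    intro i
    have hd : (deg (bar i) : ℂ) = deg i := by
      rw [hdegC, hdegC, show ((bar i).1 : G → ℂ) 1 = conj ((i.1 : G → ℂ) 1) from rfl, hn,
        Complex.conj_natCast]
    have h1 := ht (bar i)
    have h2 := htd (bar i)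
    rw [show ((bar i).1 : G → ℂ) D.t = conj ((i.1 : G → ℂ) D.t) from rfl, ht] at h1
    rw [show ((bar i).1 : G → ℂ) (D.t * (D.d : G)) = conj ((i.1 : G → ℂ) (D.t * (D.d : G))) from rfl,
      htd] at h2
    simp only [map_add, map_mul, map_pow, map_intCast, conj_omega3] at h1 h2
    have h4 : (omega3 ^ 2) ^ 2 = omega3 := by
      rw [← pow_mul, show 2 * 2 = 3 + 1 by norm_num, pow_succ, omega3_cube, one_mul]
    rw [h4] at h2
    have h3 : ((d0 (bar i) - d0 i : ℤ) : ℂ) + ((d1 (bar i) - d2 i : ℤ) : ℂ) * omega3 +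
        ((d2 (bar i) - d1 i : ℤ) : ℂ) * omega3 ^ 2 = 0 := by
      push_cast; linear_combination -h2
    obtain ⟨h5, h6⟩ := int_coeff_eq_of_eq_zero h3
    have h7 : d0 i + d1 i + d2 i = d0 (bar i) + d1 (bar i) + d2 (bar i) := by exact_mod_cast h1
    refine ⟨by exact_mod_cast hd, ?_, ?_⟩ <;> omega
  -- values at `t d⁻¹`
  have htd' : ∀ i : ι, (i.1 : G → ℂ) (D.t * ((D.d⁻¹ : cen D) : G)) =
      (d0 i : ℂ) + d1 i * omega3 ^ 2 + d2 i * omega3 := by
    intro i
    rw [← inv_mul_section, Chars.irr_inv, htd]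
    simp only [map_add, map_mul, map_pow, map_intCast, conj_omega3]
    linear_combination (d2 i : ℂ) * omega3 * omega3_cube
  have hd1 : ¬ 2 ∣ orderOf (D.d⁻¹ : cen D) := by rw [orderOf_inv]; exact D.d_odd
  have h1odd : ¬ 2 ∣ orderOf (1 : cen D) := PrincipalInner.not_dvd_orderOf_one
  -- the local sums
  have hne1 : (D.d : cen D ⧸ pPrimeCore 2 (cen D)) ≠ 1 := fun h =>
    D.d_notMem ((QuotientGroup.eq_one_iff _).1 h)
  have e11 : ∑ i : ι, (i.1 : G → ℂ) D.t * (i.1 : G → ℂ) D.t = 24 := by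
    have h := section_sum D hM h1odd h1odd
    rw [local_sum D hM hps, hsum] at h
    simp only [OneMemClass.coe_one, mul_one, inv_one, QuotientGroup.mk_one] at h
    rw [h, Chars.classIndicator, if_pos (IsConj.refl _), mul_one]
    rw [show Subgroup.centralizer ({(1 : cen D ⧸ pPrimeCore 2 (cen D))} : Set _) = ⊤ from
      eq_top_iff.2 fun x _ => Subgroup.mem_centralizer_singleton_iff.2 (by simp),
      Subgroup.card_top, D.card_quot]
    norm_num
  have e1d : ∑ i : ι, (i.1 : G → ℂ) D.t * (i.1 : G → ℂ) (D.t * (D.d : G)) = 0 := by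
    have h := section_sum D hM h1odd D.d_odd
    rw [local_sum D hM hps, hsum] at h
    simp only [OneMemClass.coe_one, mul_one, QuotientGroup.mk_one, QuotientGroup.mk_inv] at h
    rw [h, Chars.classIndicator, if_neg, mul_zero]
    rw [isConj_one_left, inv_eq_one]
    exact hne1
  have edd : ∑ i : ι, (i.1 : G → ℂ) (D.t * (D.d : G)) * (i.1 : G → ℂ) (D.t * (D.d : G)) = 0 := by
    have h := section_sum D hM D.d_odd D.d_odd
    rw [local_sum D hM hps, hsum] at h
    rw [h, Chars.classIndicator, if_neg, mul_zero]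
    intro hc
    obtain ⟨x, hx⟩ := isConj_iff.1 hc
    obtain ⟨c, rfl⟩ := QuotientGroup.mk_surjective x
    refine D.not_conj c ((QuotientGroup.eq_one_iff _).1 ?_)
    simp only [QuotientGroup.mk_mul, QuotientGroup.mk_inv] at hx ⊢
    have h3 := congrArg (·⁻¹) hx
    simp only [mul_inv_rev, inv_inv, ← mul_assoc] at h3
    rw [h3, inv_mul_cancel]
  have edd' : ∑ i : ι, (i.1 : G → ℂ) (D.t * (D.d : G)) *
      (i.1 : G → ℂ) (D.t * ((D.d⁻¹ : cen D) : G)) = 6 := by
    have h := section_sum D hM D.d_odd hd1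
    rw [local_sum D hM hps, hsum] at h
    rw [h, inv_inv, Chars.classIndicator, if_pos (IsConj.refl _), mul_one]
    rw [show Nat.card (Subgroup.centralizer
      ({(D.d : cen D ⧸ pPrimeCore 2 (cen D))} : Set (cen D ⧸ pPrimeCore 2 (cen D)))) = 6 from
        (Nat.card_congr (Equiv.subtypeEquivRight fun c =>
          Subgroup.mem_centralizer_singleton_iff)).trans D.cent_card]
    norm_num
  -- weak orthogonality with the degrees
  have eweak : ∀ y : cen D, ¬ 2 ∣ orderOf y →
      ∑ i : ι, (deg i : ℂ) * (i.1 : G → ℂ) (D.t * (y : G)) = 0 := by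
    intro y hy
    have h := weak_block_orth (p := 2) hM (PrincipalSection.isPBlock_principalBlock M G)
      (g := 1) (h := (D.t * (y : G))⁻¹) PrincipalInner.not_dvd_orderOf_one
      (by rw [orderOf_inv]; exact two_dvd_orderOf_mul D hy)
    rw [hsum] at h
    simp only [Chars.irr_inv, Complex.conj_conj] at h
    simpa only [hdegC] using h
  have ew1 := eweak 1 h1odd
  have ew2 := eweak D.d D.d_odd
  simp only [OneMemClass.coe_one, mul_one] at ew1
  -- integer identities
  simp only [ht, htd, htd'] at e11 e1d edd edd' ew1 ew2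
  set D00 := ∑ i, d0 i * d0 i with hD00
  set D11 := ∑ i, d1 i * d1 i with hD11
  set D22 := ∑ i, d2 i * d2 i with hD22
  set D01 := ∑ i, d0 i * d1 i with hD01
  set D02 := ∑ i, d0 i * d2 i with hD02
  set D12 := ∑ i, d1 i * d2 i with hD12
  set W0 := ∑ i, deg i * d0 i with hW0
  set W1 := ∑ i, deg i * d1 i with hW1
  set W2 := ∑ i, deg i * d2 i with hW2
  have q11 : D00 + D11 + D22 + 2 * (D01 + D02 + D12) = 24 := by
    have h : ((D00 + D11 + D22 + 2 * (D01 + D02 + D12) : ℤ) : ℂ) = 24 := by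
      rw [← e11, hD00, hD11, hD22, hD01, hD02, hD12]
      push_cast
      simp only [Finset.mul_sum, ← Finset.sum_add_distrib]
      exact Finset.sum_congr rfl fun i _ => by ring
    exact_mod_cast h
  have q1d : ((D00 + D01 + D02 : ℤ) : ℂ) + ((D01 + D11 + D12 : ℤ) : ℂ) * omega3 +
      ((D02 + D12 + D22 : ℤ) : ℂ) * omega3 ^ 2 = 0 := by
    rw [← e1d, hD00, hD11, hD22, hD01, hD02, hD12]
    push_cast
    simp only [Finset.mul_sum, Finset.sum_mul, ← Finset.sum_add_distrib]
    exact Finset.sum_congr rfl fun i _ => by ring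
  have qdd : ((D00 + 2 * D12 : ℤ) : ℂ) + ((2 * D01 + D22 : ℤ) : ℂ) * omega3 +
      ((2 * D02 + D11 : ℤ) : ℂ) * omega3 ^ 2 = 0 := by
    rw [← edd, hD00, hD11, hD22, hD01, hD02, hD12]
    push_cast
    simp only [Finset.mul_sum, Finset.sum_mul, ← Finset.sum_add_distrib]
    exact Finset.sum_congr rfl fun i _ => by
      linear_combination (-2 * (d1 i : ℂ) * d2 i - (d2 i : ℂ) ^ 2 * omega3) * omega3_cube
  have qdd' : D00 + D11 + D22 - (D01 + D02 + D12) = 6 := by
    have h : ((D00 + D11 + D22 - (D01 + D02 + D12) : ℤ) : ℂ) = 6 := by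
      rw [← edd', hD00, hD11, hD22, hD01, hD02, hD12]
      push_cast
      simp only [← Finset.sum_add_distrib, ← Finset.sum_sub_distrib]
      exact Finset.sum_congr rfl fun i _ => by
        linear_combination (-(d0 i : ℂ) * d1 i - (d0 i : ℂ) * d2 i - (d1 i : ℂ) * d2 i) * omega3_sum +
          (-(d1 i : ℂ) ^ 2 - (d2 i : ℂ) ^ 2 - (d1 i : ℂ) * d2 i * omega3) * omega3_cube
    exact_mod_cast h
  have qw1 : W0 + W1 + W2 = 0 := by
    have h : ((W0 + W1 + W2 : ℤ) : ℂ) = 0 := by
      rw [← ew1, hW0, hW1, hW2]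
      push_cast
      simp only [← Finset.sum_add_distrib]
      exact Finset.sum_congr rfl fun i _ => by ring
    exact_mod_cast h
  have qw2 : ((W0 : ℤ) : ℂ) + (W1 : ℂ) * omega3 + (W2 : ℂ) * omega3 ^ 2 = 0 := by
    rw [← ew2, hW0, hW1, hW2]
    push_cast
    simp only [Finset.sum_mul, ← Finset.sum_add_distrib]
    exact Finset.sum_congr rfl fun i _ => by ring
  obtain ⟨r1, r2⟩ := int_coeff_eq_of_eq_zero q1d
  obtain ⟨s1, s2⟩ := int_coeff_eq_of_eq_zero qdd
  obtain ⟨w1, w2⟩ := int_coeff_eq_of_eq_zero qw2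
  -- restriction to `S`
  haveI : Fintype (S : Subgroup G) := Fintype.ofFinite _
  have hres : ∀ i : ι, ∃ k : ℕ, (deg i : ℤ) + 7 * (d0 i + d1 i + d2 i) = 8 * k := by
    intro i
    obtain ⟨k, hk⟩ := Chars.isCharacter_classInner_nat
      (Chars.isCharacter_restrict (H := (S : Subgroup G)) (Chars.irr_isCharacter i.1))
      (Chars.irr_isCharacter (Chars.trivialIrr (S : Subgroup G)))
    refine ⟨k, ?_⟩
    simp only [classInner, hS8,
      show ∀ s : ↥(S : Subgroup G),
        (Chars.trivialIrr ↥(S : Subgroup G) : ↥(S : Subgroup G) → ℂ) s = 1 from fun _ => rfl, map_one,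
      mul_one] at hk
    rw [← Finset.add_sum_erase _ _ (Finset.mem_univ (1 : (S : Subgroup G))),
      Finset.sum_congr rfl (fun (s : ↥(S : Subgroup G)) hs =>
        show (i.1 : G → ℂ) (s : G) = (i.1 : G → ℂ) D.t from
        ((Chars.isClassFunction_apply_eq (Chars.irr_isClassFunction i.1)
          (D.conj_all (s : G) s.2 fun h => (Finset.mem_erase.1 hs).1
            (Subtype.ext (by rw [OneMemClass.coe_one]; exact h)))))),
      Finset.sum_const, Finset.card_erase_of_mem (Finset.mem_univ _), Finset.card_univ,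
      ← Nat.card_eq_fintype_card, hS8, OneMemClass.coe_one, ← hdegC, ht, nsmul_eq_mul] at hk
    have h : ((deg i + 7 * (d0 i + d1 i + d2 i) : ℤ) : ℂ) = ((8 * k : ℤ) : ℂ) := by
      push_cast at hk ⊢
      linear_combination 8 * hk
    exact_mod_cast h
  -- the involution count
  have hT := sum_sq_div D hM hps D.d_odd D.d_notMem
  rw [hsum] at hT
  simp only [htd, ht, ← hdegC] at hT
  have hT2 : ((∑ i, (d0 i : ℚ) * ((d0 i : ℚ) + d1 i + d2 i) ^ 2 / deg i : ℚ) : ℂ) +
      ((∑ i, (d1 i : ℚ) * ((d0 i : ℚ) + d1 i + d2 i) ^ 2 / deg i : ℚ) : ℂ) * omega3 +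
      ((∑ i, (d2 i : ℚ) * ((d0 i : ℚ) + d1 i + d2 i) ^ 2 / deg i : ℚ) : ℂ) * omega3 ^ 2 = 0 := by
    rw [← hT]
    push_cast
    simp only [Finset.sum_mul, ← Finset.sum_add_distrib]
    exact Finset.sum_congr rfl fun i _ => by ring
  obtain ⟨t1, -⟩ := coeff_eq_of_eq_zero hT2
  refine frame_false deg e d0 d1 d2 bar hpos hone he htriv.1 htriv.2.1 htriv.2.2
    (show D00 = 4 by omega) (show D11 = 4 by omega) (show D22 = 4 by omega)
    (show D01 = 2 by omega) (show D02 = 2 by omega) (show D12 = 2 by omega)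
    (show W0 = 0 by omega) (show W1 = 0 by omega) (show W2 = 0 by omega)
    (fun i => (hbar i).1) (fun i => (hbar i).2.1) (fun i => (hbar i).2.2)
    (fun i => ?_) (fun i => ?_) ?_
  · obtain ⟨k, hk⟩ := hres i
    exact ⟨k, hk⟩
  · obtain ⟨k, hk⟩ := hres i
    rw [hk]; positivity
  · rw [← sub_eq_zero.2 t1, ← Finset.sum_sub_distrib]
    exact Finset.sum_congr rfl fun i _ => by ring

end Cfsg.Agent.Lib.EightInvolution
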